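import Cfsg.Agent.G2Oct.Bridge

/-!
Change of the field for the automorphism group of the split octonions.
-/

set_option autoImplicit false

namespace CfsgLib.G2Oct

open Matrix Cfsg.Lie

variable {F K : Type*} [Field F] [Field K] (φ : F →+* K)

theorem rootMat_map (r : Fin 12) (t : F) : (rootMat F r t).map φ = rootMat K r (φ t) := by
  have hev : ∀ A : Sp, (ev F A).map φ = ev K A := fun A => by
    ext i j
    rw [Matrix.map_apply, ev_apply, ev_apply, map_intCast]
  rw [rootMat, rootMat, Matrix.map_add _ (map_add φ), Matrix.map_add _ (map_add φ),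
    Matrix.map_smul' _ _ _ (map_mul φ), Matrix.map_smul' _ _ _ (map_mul φ), hev, hev, hev, map_pow]

theorem exists_mapG2 (g : ↥(G2 F)) : ∃ h : ↥(G2 K), g2Mat h = (g2Mat g).map φ := by
  have hg : g ∈ rootGen F := by rw [rootGen_eq_top]; exact Subgroup.mem_top g
  unfold rootGen at hg
  induction hg using Subgroup.closure_induction with
  | mem x hx =>
    obtain ⟨r, t, rfl⟩ := hx
    exact ⟨rootEl r (φ t), (rootMat_map φ r t).symm⟩
  | one => exact ⟨1, (Matrix.map_one _ (map_zero φ) (map_one φ)).symm⟩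
  | mul x y _ _ hx hy =>
    obtain ⟨a, ha⟩ := hx
    obtain ⟨b, hb⟩ := hy
    exact ⟨a * b, by rw [g2Mat_mul, g2Mat_mul, ha, hb, Matrix.map_mul]⟩
  | inv x _ hx =>
    obtain ⟨a, ha⟩ := hx
    refine ⟨a⁻¹, ?_⟩
    calc g2Mat a⁻¹ = g2Mat a⁻¹ * ((g2Mat x).map φ * (g2Mat x⁻¹).map φ) := by
          rw [← Matrix.map_mul, g2Mat_mul_inv, Matrix.map_one _ (map_zero φ) (map_one φ), Matrix.mul_one]
      _ = (g2Mat x⁻¹).map φ := by rw [← Matrix.mul_assoc, ← ha, g2Mat_inv_mul, Matrix.one_mul]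

/-- The map of groups induced by a map of fields. -/
noncomputable def mapG2 : ↥(G2 F) →* ↥(G2 K) where
  toFun g := (exists_mapG2 φ g).choose
  map_one' := g2Mat_injective (((exists_mapG2 φ 1).choose_spec).trans (by
    rw [g2Mat_one, g2Mat_one, Matrix.map_one _ (map_zero φ) (map_one φ)]))
  map_mul' g h := g2Mat_injective (((exists_mapG2 φ (g * h)).choose_spec).trans (by
    rw [g2Mat_mul, g2Mat_mul, Matrix.map_mul]
    exact congrArg₂ _ (exists_mapG2 φ g).choose_spec.symm (exists_mapG2 φ h).choose_spec.symm))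

theorem g2Mat_mapG2 (g : ↥(G2 F)) : g2Mat (mapG2 φ g) = (g2Mat g).map φ :=
  (exists_mapG2 φ g).choose_spec

theorem mapG2_injective : Function.Injective (mapG2 φ) := fun g h e => by
  refine g2Mat_injective ?_
  have h1 := congrArg g2Mat e
  rw [g2Mat_mapG2, g2Mat_mapG2] at h1
  exact Matrix.map_injective φ.injective h1

theorem sl3Lin_map (M : Matrix.SpecialLinearGroup (Fin 3) F) (x : Fin 8 → F) :
    φ ∘ sl3Lin M x = sl3Lin (Matrix.SpecialLinearGroup.map φ M) (φ ∘ x) := by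
  rw [← zMk_parts x, sl3Lin_apply]
  have h : φ ∘ zMk (x 0) (zA F x) (zB F x) (x 7) = zMk (φ (x 0)) (φ ∘ zA F x) (φ ∘ zB F x) (φ (x 7)) := by
    funext i; fin_cases i <;> simp [zMk]
  rw [h, sl3Lin_apply, ← map_inv, Matrix.SpecialLinearGroup.map_apply_coe,
    Matrix.SpecialLinearGroup.map_apply_coe, RingHom.mapMatrix_apply, RingHom.mapMatrix_apply]
  generalize (M⁻¹ : Matrix.SpecialLinearGroup (Fin 3) F).1 = N
  funext i
  fin_cases i <;> simp [zMk, Matrix.mulVec, dotProduct, Fin.sum_univ_three]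

theorem mapG2_sl3G2 (M : Matrix.SpecialLinearGroup (Fin 3) F) :
    mapG2 φ (sl3G2 M) = sl3G2 (Matrix.SpecialLinearGroup.map φ M) := by
  refine g2Mat_injective (Matrix.ext fun i j => ?_)
  rw [g2Mat_mapG2, Matrix.map_apply]
  have h1 : g2Mat (sl3G2 M) i j = sl3Lin M (Pi.single j 1) i := by
    rw [← sl3G2_mulVec, Matrix.mulVec_single_one]; rfl
  have h2 : g2Mat (sl3G2 (Matrix.SpecialLinearGroup.map φ M)) i j =
      sl3Lin (Matrix.SpecialLinearGroup.map φ M) (φ ∘ Pi.single j 1) i := by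
    have : (φ ∘ Pi.single j 1 : Fin 8 → K) = Pi.single j 1 := by
      funext k; by_cases h : k = j <;> simp [h]
    rw [this, ← sl3G2_mulVec, Matrix.mulVec_single_one]; rfl
  rw [h1, h2, ← sl3Lin_map]
  rfl

/-- An element whose entries lie in the subfield comes from it. -/
theorem exists_descend (x : ↥(G2 K)) (hx : ∀ i j, ∃ a : F, φ a = g2Mat x i j) :
    ∃ g : ↥(G2 F), mapG2 φ g = x := by
  choose f hf using hx
  let M : Matrix (Fin 8) (Fin 8) F := Matrix.of f
  have hM : M.map φ = g2Mat x := by ext i j; exact hf i j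
  have hdet : IsUnit M.det := by
    rw [isUnit_iff_ne_zero]
    intro h
    have h1 : (g2Mat x).det = 0 := by
      rw [← hM]
      show (φ.mapMatrix M).det = 0
      rw [← RingHom.map_det, h, map_zero]
    have h2 := congrArg Matrix.det (g2Mat_inv_mul x)
    rw [Matrix.det_mul, h1, mul_zero, Matrix.det_one] at h2
    exact zero_ne_one h2
  let U : GL (Fin 8) F := M.nonsingInvUnit hdet
  have hU : ∀ a b : Fin 8 → F, M *ᵥ zornMul a b = zornMul (M *ᵥ a) (M *ᵥ b) := by
    intro a b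
    refine funext fun i => φ.injective ?_
    have hz : ∀ u v : Fin 8 → F, φ ∘ zornMul u v = zornMul (φ ∘ u) (φ ∘ v) := fun u v => by
      funext k; fin_cases k <;> simp [zornMul, zA, zB, dot3, cross3]
    have hm : ∀ u : Fin 8 → F, φ ∘ (M *ᵥ u) = g2Mat x *ᵥ (φ ∘ u) := fun u => by
      funext k
      rw [← hM]
      exact RingHom.map_mulVec φ M u k
    show (φ ∘ (M *ᵥ zornMul a b)) i = (φ ∘ zornMul (M *ᵥ a) (M *ᵥ b)) i
    rw [hz, hm, hm, hm, hz, g2Mat_zornMul]
  refine ⟨⟨U, hU⟩, g2Mat_injective ?_⟩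
  rw [g2Mat_mapG2]
  exact hM

end CfsgLib.G2Oct
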