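import Cfsg.Agent.G2Oct.Involution
import Cfsg.Agent.Classical.Linear.Card
import Mathlib.GroupTheory.Index

/-!
The centralizer of the standard involution of `G₂(q)`: two commuting copies of `SL₂(q)` meeting in
the involution, of index two.
-/

set_option autoImplicit false

namespace CfsgLib.G2Oct

open Matrix Cfsg.Lie

variable {F : Type*} [Field F]

local notation "Q2" => Matrix (Fin 2) (Fin 2) F
local notation "G22" => GL (Fin 2) F
local notation "SL2" => Matrix.SpecialLinearGroup (Fin 2) F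

/-- `diag (a, 1)`. -/
def diagA (a : Fˣ) : GL (Fin 2) F where
  val := !![(a : F), 0; 0, 1]
  inv := !![((a⁻¹ : Fˣ) : F), 0; 0, 1]
  val_inv := by ext i j; fin_cases i <;> fin_cases j <;> simp [Matrix.mul_apply]
  inv_val := by ext i j; fin_cases i <;> fin_cases j <;> simp [Matrix.mul_apply]

theorem det_diagA (a : Fˣ) : GeneralLinearGroup.det (diagA a) = a :=
  Units.ext (by simp [GeneralLinearGroup.val_det_apply, diagA, det_fin_two])

theorem det_toGL' (S : SL2) : GeneralLinearGroup.det (Matrix.SpecialLinearGroup.toGL S) = 1 :=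
  Units.ext (by rw [GeneralLinearGroup.val_det_apply, Units.val_one]; exact S.2)

/-- The parametrization of the pairs. -/
def pairOf (x : (SL2 × SL2) × Fˣ) : ↥(detEq F) :=
  ⟨(Matrix.SpecialLinearGroup.toGL x.1.1 * diagA x.2, Matrix.SpecialLinearGroup.toGL x.1.2 * diagA x.2),
    show GeneralLinearGroup.det _ = GeneralLinearGroup.det _ by
      rw [map_mul, map_mul, det_toGL', det_toGL']⟩

theorem pairOf_bijective : Function.Bijective (pairOf : (SL2 × SL2) × Fˣ → ↥(detEq F)) := by
  constructor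
  · rintro ⟨⟨S, T⟩, a⟩ ⟨⟨S', T'⟩, a'⟩ h
    have h1 := congrArg (fun g : ↥(detEq F) => g.1.1) h
    have h2 := congrArg (fun g : ↥(detEq F) => g.1.2) h
    dsimp only [pairOf] at h1 h2
    have ha : a = a' := by
      have := congrArg GeneralLinearGroup.det h1
      rwa [map_mul, map_mul, det_toGL', det_toGL', one_mul, one_mul, det_diagA, det_diagA] at this
    subst ha
    have e1 := mul_right_cancel h1
    have e2 := mul_right_cancel h2
    rw [Matrix.SpecialLinearGroup.toGL_injective e1, Matrix.SpecialLinearGroup.toGL_injective e2]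
  · rintro ⟨⟨A, B⟩, hd⟩
    have hd' : GeneralLinearGroup.det A = GeneralLinearGroup.det B := hd
    set a := GeneralLinearGroup.det A with ha
    have hs : ∀ C : G22, GeneralLinearGroup.det C = a →
        ∃ S : SL2, Matrix.SpecialLinearGroup.toGL S * diagA a = C := fun C hC => by
      have e : GeneralLinearGroup.det (C * (diagA a)⁻¹) = 1 := by
        rw [map_mul, map_inv, det_diagA, hC, mul_inv_cancel]
      refine ⟨⟨((C * (diagA a)⁻¹ : G22) : Q2), ?_⟩, ?_⟩
      · have := congrArg Units.val e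
        rwa [GeneralLinearGroup.val_det_apply, Units.val_one] at this
      · rw [← eq_mul_inv_iff_mul_eq]
        exact Units.ext rfl
    obtain ⟨S, hS⟩ := hs A rfl
    obtain ⟨T, hT⟩ := hs B hd'.symm
    exact ⟨((S, T), a), Subtype.ext (Prod.ext hS hT)⟩

/-- The scalar pairs. -/
def scalPair (a : Fˣ) : ↥(detEq F) :=
  ⟨(Units.map (Matrix.scalar (Fin 2) : F →+* Q2).toMonoidHom a,
    Units.map (Matrix.scalar (Fin 2) : F →+* Q2).toMonoidHom a), rfl⟩

theorem scal_eq (a : F) : (Matrix.scalar (Fin 2) a : Q2) = a • (1 : Q2) := by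
  rw [Matrix.smul_one_eq_diagonal]; rfl

theorem toG2_eq_one_iff (g : ↥(detEq F)) : toG2 g = 1 ↔ ∃ a : Fˣ, scalPair a = g := by
  constructor
  · intro h
    have hB := eq_of_toG2_eq_one h
    have hc : ∀ X : Q2, (g.1.1 : Q2) * X = X * (g.1.1 : Q2) := fun X => by
      have := congrArg (fun a : ↥(G2 F) => hPart (g2Mat a *ᵥ mk8 X 0)) h
      simp only [g2Mat_one, Matrix.one_mulVec, hPart_mk8] at this
      rw [show g2Mat (toG2 g) *ᵥ mk8 X 0 = actLin g.1 (mk8 X 0) from toG2_mulVec _ _, hPart_actLin,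
        hPart_mk8] at this
      conv_rhs => rw [← this]
      rw [Matrix.mul_assoc, Units.inv_mul, Matrix.mul_one]
    obtain ⟨a, ha⟩ : ∃ a : F, (g.1.1 : Q2) = a • (1 : Q2) := by
      generalize (g.1.1 : Q2) = T at hc
      refine ⟨T 0 0, ?_⟩
      have f1 := fun i j => congrFun (congrFun (hc !![0, 1; 0, 0]) i) j
      have f2 := fun i j => congrFun (congrFun (hc !![0, 0; 1, 0]) i) j
      have g1 := f1 0 1; have g2 := f1 0 0; have g3 := f2 0 0
      simp [Matrix.mul_apply, Fin.sum_univ_two] at g1 g2 g3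
      ext i j; fin_cases i <;> fin_cases j <;> simp [g1, ← g2, g3]
    have ha0 : a ≠ 0 := fun e => by
      subst e
      rw [zero_smul] at ha
      exact Units.ne_zero g.1.1 ha
    refine ⟨Units.mk0 a ha0, ?_⟩
    have hA : Units.map (Matrix.scalar (Fin 2) : F →+* Q2).toMonoidHom (Units.mk0 a ha0) = g.1.1 :=
      Units.ext (by rw [ha]; exact scal_eq a)
    exact Subtype.ext (Prod.ext hA (hA.trans hB.symm))
  · rintro ⟨a, rfl⟩
    exact toG2_scalar (a := (a : F)) (scal_eq _) (scal_eq _)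

theorem toG2_range (h2 : (2 : F) ≠ 0) :
    (toG2 (F := F)).range = Subgroup.centralizer ({t0 F} : Set ↥(G2 F)) := by
  refine le_antisymm ?_ (fun c hc => exists_pair_of_comm h2 c ?_)
  · rintro _ ⟨g, rfl⟩
    exact Subgroup.mem_centralizer_singleton_iff.2 (toG2_comm_t0 g)
  · exact Subgroup.mem_centralizer_singleton_iff.1 hc

theorem card_centralizer_t0 [Fintype F] (h2 : (2 : F) ≠ 0) :
    Nat.card (Subgroup.centralizer ({t0 F} : Set ↥(G2 F))) = Nat.card SL2 * Nat.card SL2 := by
  rw [← toG2_range h2]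
  have hk : Nat.card (toG2 (F := F)).ker = Nat.card Fˣ := by
    refine (Nat.card_eq_of_bijective (fun a : Fˣ => (⟨scalPair a,
      (MonoidHom.mem_ker).2 ((toG2_eq_one_iff _).2 ⟨a, rfl⟩)⟩ : (toG2 (F := F)).ker)) ⟨?_, ?_⟩).symm
    · intro a b h
      have h1 := congrArg (fun g : (toG2 (F := F)).ker => (g.1.1.1 : Q2) 0 0) h
      exact Units.ext (by simpa [scalPair] using h1)
    · rintro ⟨g, hg⟩
      obtain ⟨a, rfl⟩ := (toG2_eq_one_iff g).1 (MonoidHom.mem_ker.1 hg)
      exact ⟨a, rfl⟩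
  have h1 := Subgroup.card_mul_index (toG2 (F := F)).ker
  rw [Subgroup.index_ker, hk, ← Nat.card_eq_of_bijective _ pairOf_bijective, Nat.card_prod,
    Nat.card_prod, mul_comm _ (Nat.card Fˣ)] at h1
  exact Nat.eq_of_mul_eq_mul_left Nat.card_pos h1

/-- The left copy of `SL₂`. -/
def leftHom : SL2 →* ↥(detEq F) :=
  MonoidHom.codRestrict ((MonoidHom.inl G22 G22).comp Matrix.SpecialLinearGroup.toGL) (detEq F)
    fun S => show GeneralLinearGroup.det _ = GeneralLinearGroup.det (1 : G22) by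
      rw [map_one]; exact det_toGL' S

/-- The right copy of `SL₂`. -/
def rightHom : SL2 →* ↥(detEq F) :=
  MonoidHom.codRestrict ((MonoidHom.inr G22 G22).comp Matrix.SpecialLinearGroup.toGL) (detEq F)
    fun S => show GeneralLinearGroup.det (1 : G22) = GeneralLinearGroup.det _ by
      rw [map_one]; exact (det_toGL' S).symm

theorem leftRight_injective :
    Function.Injective ((toG2 (F := F)).comp leftHom) ∧
      Function.Injective ((toG2 (F := F)).comp rightHom) := by
  constructor <;> refine (injective_iff_map_eq_one _).2 fun S hS => ?_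
  · have h := eq_of_toG2_eq_one hS
    exact Matrix.SpecialLinearGroup.toGL_injective (h.symm.trans (map_one _).symm)
  · have h := eq_of_toG2_eq_one hS
    exact Matrix.SpecialLinearGroup.toGL_injective (h.trans (map_one _).symm)

theorem left_right_comm (S T : SL2) :
    toG2 (leftHom S) * toG2 (rightHom T) = toG2 (rightHom T) * toG2 (leftHom S) := by
  rw [← map_mul, ← map_mul]
  refine congrArg _ (Subtype.ext (Prod.ext ?_ ?_))
  · exact ((mul_one _).trans (one_mul _).symm : Matrix.SpecialLinearGroup.toGL S * 1 = 1 * _)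
  · exact ((one_mul _).trans (mul_one _).symm : 1 * Matrix.SpecialLinearGroup.toGL T = _ * 1)

theorem inter_left_right (h2 : (2 : F) ≠ 0) :
    ((toG2 (F := F)).comp leftHom).range ⊓ ((toG2 (F := F)).comp rightHom).range =
      Subgroup.zpowers (t0 F) := by
  have hneg : ((-1 : SL2) : Q2) = -1 := rfl
  refine le_antisymm ?_ (Subgroup.zpowers_le.2 ⟨⟨-1, ?_⟩, ⟨-1, ?_⟩⟩)
  · rintro _ ⟨⟨S, rfl⟩, ⟨T, hT⟩⟩
    have h : toG2 (leftHom S * (rightHom T)⁻¹) = 1 := by
      rw [map_mul, map_inv, mul_inv_eq_one]; exact hT.symm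
    obtain ⟨a, ha⟩ := (toG2_eq_one_iff _).1 h
    have e1 : (Matrix.scalar (Fin 2) (a : F) : Q2) = S.1 := by
      refine (congrArg (fun g : ↥(detEq F) => (g.1.1 : Q2)) ha).trans ?_
      show ((Matrix.SpecialLinearGroup.toGL S * (1 : G22)⁻¹ : G22) : Q2) = S.1
      rw [inv_one, mul_one]
      rfl
    have ha2 : (a : F) * a = 1 := by
      have := congrArg Matrix.det e1
      rw [S.2, scal_eq, det_smul, det_one, mul_one, Fintype.card_fin, sq] at this
      exact this
    rcases mul_self_eq_one_iff.1 ha2 with h1 | h1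
    · have : S = 1 := Matrix.SpecialLinearGroup.ext _ _ fun i j => by
        rw [← e1, h1, map_one]; rfl
      rw [this, map_one]; exact one_mem _
    · have hS : S.1 = -1 := by rw [← e1, h1, map_neg, map_one]
      refine ⟨1, ?_⟩
      show t0 F ^ (1 : ℤ) = toG2 (leftHom S)
      rw [zpow_one, eq_comm, ← mul_inv_eq_one, t0, ← map_inv, ← map_mul]
      refine toG2_scalar (a := -1) ?_ ?_
      · show ((Matrix.SpecialLinearGroup.toGL S * (1 : G22)⁻¹ : G22) : Q2) = _
        rw [inv_one, mul_one, show ((Matrix.SpecialLinearGroup.toGL S : G22) : Q2) = S.1 from rfl, hS, neg_one_smul]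
      · show (((1 : G22) * (-1 : G22)⁻¹ : G22) : Q2) = _
        rw [show (-1 : G22)⁻¹ = -1 from inv_eq_of_mul_eq_one_right (by rw [neg_mul_neg, one_mul]),
          one_mul, Units.val_neg, Units.val_one, neg_one_smul]
  · show toG2 (leftHom (-1)) = t0 F
    rw [← mul_inv_eq_one, t0, ← map_inv, ← map_mul]
    refine toG2_scalar (a := -1) ?_ ?_
    · show ((Matrix.SpecialLinearGroup.toGL (-1) * (1 : G22)⁻¹ : G22) : Q2) = _
      rw [inv_one, mul_one, show ((Matrix.SpecialLinearGroup.toGL (-1 : SL2) : G22) : Q2) = ((-1 : SL2) : Q2) from rfl, hneg, neg_one_smul]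
    · show (((1 : G22) * (-1 : G22)⁻¹ : G22) : Q2) = _
      rw [show (-1 : G22)⁻¹ = -1 from inv_eq_of_mul_eq_one_right (by rw [neg_mul_neg, one_mul]),
        one_mul, Units.val_neg, Units.val_one, neg_one_smul]
  · show toG2 (rightHom (-1)) = t0 F
    refine congrArg _ (Subtype.ext (Prod.ext rfl (Units.ext ?_)))
    show ((-1 : SL2) : Q2) = ((-1 : G22) : Q2)
    rw [hneg, Units.val_neg, Units.val_one]

/-- The structure of the centralizer of the standard involution. -/
theorem centralizer_t0_structure [Fintype F] (hF : Odd (Fintype.card F)) :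
    Nat.card (Subgroup.centralizer ({t0 F} : Set ↥(G2 F))) =
        Fintype.card F ^ 2 * (Fintype.card F ^ 2 - 1) ^ 2 ∧
      ∃ L₁ L₂ : Subgroup ↥(G2 F), Nonempty (L₁ ≃* SL2) ∧ Nonempty (L₂ ≃* SL2) ∧
        (∀ x ∈ L₁, ∀ y ∈ L₂, x * y = y * x) ∧ L₁ ⊓ L₂ = Subgroup.zpowers (t0 F) ∧
        L₁ ⊔ L₂ ≤ Subgroup.centralizer ({t0 F} : Set ↥(G2 F)) ∧
        (L₁ ⊔ L₂).relIndex (Subgroup.centralizer ({t0 F} : Set ↥(G2 F))) = 2 := by
  classical
  have h2 := two_ne_zero_of_odd hF
  haveI : Finite ↥(G2 F) := Subtype.finite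
  refine ⟨?_, ((toG2 (F := F)).comp leftHom).range, ((toG2 (F := F)).comp rightHom).range,
    ⟨(MonoidHom.ofInjective leftRight_injective.1).symm⟩,
    ⟨(MonoidHom.ofInjective leftRight_injective.2).symm⟩, ?_, inter_left_right h2, ?_, ?_⟩
  · rw [card_centralizer_t0 h2, CfsgLib.Classical.Linear.card_sl_two]
    ring
  · rintro _ ⟨S, rfl⟩ _ ⟨T, rfl⟩
    exact left_right_comm S T
  · rw [← toG2_range h2]
    refine sup_le ?_ ?_ <;> rintro _ ⟨S, rfl⟩ <;> exact ⟨_, rfl⟩
  · let f : SL2 × SL2 →* ↥(G2 F) := MonoidHom.noncommCoprod ((toG2 (F := F)).comp leftHom)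
      ((toG2 (F := F)).comp rightHom) left_right_comm
    have hr : f.range = ((toG2 (F := F)).comp leftHom).range ⊔ ((toG2 (F := F)).comp rightHom).range :=
      MonoidHom.noncommCoprod_range _ _ _
    have hk : Nat.card f.ker = 2 := by
      have ord : orderOf (t0 F) = 2 := orderOf_eq_prime (by
        rw [sq, t0, ← map_mul]
        refine toG2_scalar (a := 1) ?_ ?_
        · show (((1 : G22) * 1 : G22) : Q2) = _
          rw [one_mul, Units.val_one, one_smul]
        · show (((-1 : G22) * -1 : G22) : Q2) = _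
          rw [neg_mul_neg, one_mul, Units.val_one, one_smul]) (t0_ne_one h2)
      refine Eq.trans ?_ ((Nat.card_zpowers (t0 F)).trans ord)
      rw [← inter_left_right h2]
      refine Nat.card_eq_of_bijective (fun x => ⟨(toG2 (leftHom x.1.1)), ⟨x.1.1, rfl⟩, ⟨x.1.2⁻¹, ?_⟩⟩)
        ⟨?_, ?_⟩
      · show toG2 (rightHom x.1.2⁻¹) = toG2 (leftHom x.1.1)
        rw [map_inv, map_inv, inv_eq_iff_mul_eq_one, ← left_right_comm]
        exact MonoidHom.mem_ker.1 x.2
      · rintro ⟨⟨S, T⟩, hx⟩ ⟨⟨S', T'⟩, hx'⟩ h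
        obtain rfl : S = S' := leftRight_injective.1 (congrArg Subtype.val h)
        have e1 : toG2 (leftHom S) * toG2 (rightHom T) = 1 := MonoidHom.mem_ker.1 hx
        have e2 : toG2 (leftHom S) * toG2 (rightHom T') = 1 := MonoidHom.mem_ker.1 hx'
        obtain rfl : T = T' := leftRight_injective.2 (mul_left_cancel (e1.trans e2.symm))
        rfl
      · rintro ⟨_, ⟨S, rfl⟩, ⟨T, hT⟩⟩
        refine ⟨⟨(S, T⁻¹), MonoidHom.mem_ker.2 ?_⟩, rfl⟩
        show toG2 (leftHom S) * toG2 (rightHom T⁻¹) = 1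
        rw [map_inv, map_inv, mul_inv_eq_one]
        exact hT.symm
    have h1 := Subgroup.card_mul_index f.ker
    rw [Subgroup.index_ker, hk, hr, Nat.card_prod] at h1
    have hle : ((toG2 (F := F)).comp leftHom).range ⊔ ((toG2 (F := F)).comp rightHom).range ≤
        Subgroup.centralizer ({t0 F} : Set ↥(G2 F)) := by
      rw [← toG2_range h2]
      refine sup_le ?_ ?_ <;> rintro _ ⟨S, rfl⟩ <;> exact ⟨_, rfl⟩
    have h3 := Subgroup.card_mul_index
      (((((toG2 (F := F)).comp leftHom).range ⊔ ((toG2 (F := F)).comp rightHom).range)).subgroupOf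
        (Subgroup.centralizer ({t0 F} : Set ↥(G2 F))))
    rw [Nat.card_congr (Subgroup.subgroupOfEquivOfLe hle).toEquiv, card_centralizer_t0 h2, ← h1,
      mul_comm 2] at h3
    exact Nat.eq_of_mul_eq_mul_left Nat.card_pos h3

end CfsgLib.G2Oct
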