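import Cfsg.Agent.G2Oct.Form
import Cfsg.Agent.G2Oct.BaseChange
import Mathlib.FieldTheory.Finite.GaloisField
import Mathlib.LinearAlgebra.Basis.VectorSpace
import Mathlib.LinearAlgebra.Matrix.ToLin

/-!
Descent from a quadratic extension: unitary `3 × 3` matrices of determinant one give elements of `G₂`
over the small field.
-/

set_option autoImplicit false

namespace CfsgLib.G2Oct

open Matrix Cfsg.Lie

section swap

variable {K : Type*} [Field K]

/-- The table of the swap. -/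
def swapS : Sp :=
  [(0, 7, 1), (7, 0, 1), (1, 4, -1), (4, 1, -1), (2, 5, -1), (5, 2, -1), (3, 6, -1), (6, 3, -1)]

theorem ev_swapS (α β : K) (a b : Fin 3 → K) : ev K swapS *ᵥ zMk α a b β = zMk β (-b) (-a) α := by
  rw [ev_mulVec]
  funext i
  fin_cases i <;> simp [appS, swapS, zMk]

/-- The automorphism exchanging the two idempotents. -/
def swapGL : GL (Fin 8) K :=
  ⟨ev K swapS, ev K swapS, by
    refine Matrix.ext_iff_mulVec.2 fun x => ?_
    rw [← Matrix.mulVec_mulVec, Matrix.one_mulVec, ← zMk_parts x, ev_swapS, ev_swapS, neg_neg, neg_neg],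
    by
    refine Matrix.ext_iff_mulVec.2 fun x => ?_
    rw [← Matrix.mulVec_mulVec, Matrix.one_mulVec, ← zMk_parts x, ev_swapS, ev_swapS, neg_neg, neg_neg]⟩

/-- The swap as an element of `G₂`. -/
def swapEl : ↥(G2 K) :=
  ⟨swapGL, fun x y => by
    show ev K swapS *ᵥ zornMul x y = zornMul (ev K swapS *ᵥ x) (ev K swapS *ᵥ y)
    rw [← zMk_parts x, ← zMk_parts y, zornMul_zMk, ev_swapS, ev_swapS, ev_swapS, zornMul_zMk]
    funext i
    fin_cases i <;> simp [zMk, dot3, cross3] <;> ring⟩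

theorem g2Mat_swapEl : g2Mat (swapEl (K := K)) = ev K swapS := rfl

theorem swapEl_mul_self : (swapEl : ↥(G2 K)) * swapEl = 1 := by
  refine mulVec_ext' fun x => ?_
  rw [g2Mat_mul, g2Mat_swapEl, g2Mat_one, Matrix.one_mulVec, ← Matrix.mulVec_mulVec, ← zMk_parts x,
    ev_swapS, ev_swapS, neg_neg, neg_neg]

theorem swap_sl3 (M N : Matrix.SpecialLinearGroup (Fin 3) K) (h : N.1 = (M⁻¹).1ᵀ) :
    swapEl * sl3G2 M * swapEl = sl3G2 N := by
  have hN : (N⁻¹).1 = M.1ᵀ := by
    obtain ⟨N', hN'⟩ : ∃ N' : Matrix.SpecialLinearGroup (Fin 3) K, N'.1 = M.1ᵀ :=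
      ⟨⟨M.1ᵀ, by rw [det_transpose, M.2]⟩, rfl⟩
    have h1 : N * N' = 1 := Matrix.SpecialLinearGroup.ext _ _ fun i j => by
      rw [Matrix.SpecialLinearGroup.coe_mul, h, hN', ← transpose_mul, ← Matrix.SpecialLinearGroup.coe_mul,
        mul_inv_cancel, Matrix.SpecialLinearGroup.coe_one, transpose_one]
    rw [inv_eq_of_mul_eq_one_right h1, hN']
  refine mulVec_ext' fun x => ?_
  rw [g2Mat_mul, g2Mat_mul, g2Mat_swapEl, ← Matrix.mulVec_mulVec, ← Matrix.mulVec_mulVec, ← zMk_parts x,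
    ev_swapS, sl3G2_mulVec, sl3G2_mulVec, sl3Lin_apply, sl3Lin_apply, ev_swapS, hN, transpose_transpose, h,
    Matrix.mulVec_neg, Matrix.mulVec_neg, neg_neg, neg_neg]

end swap

variable {F L : Type*} [Field F] [Fintype F] [Field L] [Fintype L]

set_option maxHeartbeats 1000000 in
/-- A unitary matrix of determinant one gives an element of the same order over the small field. -/
theorem exists_of_unitary (ι : F →+* L) (hL : Fintype.card L = Fintype.card F ^ 2) (φ : L →+* L)
    (hφ : ∀ x, φ x = x ^ Fintype.card F) (M : Matrix.SpecialLinearGroup (Fin 3) L)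
    (hM : (M.1.map φ)ᵀ * M.1 = 1) : ∃ g : ↥(G2 F), orderOf g = orderOf M := by
  classical
  letI : Algebra F L := ι.toAlgebra
  set q := Fintype.card F with hq
  have hq2 : 2 ≤ q := Fintype.one_lt_card
  have hφφ : ∀ x, φ (φ x) = x := fun x => by
    rw [hφ, hφ, ← pow_mul, ← sq, ← hL, FiniteField.pow_card]
  have hfixF : ∀ x : L, φ x = x → ∃ a : F, ι a = x := by
    intro x hx
    let P : Polynomial L := Polynomial.X ^ q - Polynomial.X
    have hP : P ≠ 0 := FiniteField.X_pow_card_sub_X_ne_zero L hq2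
    have hdeg : P.natDegree = q := FiniteField.X_pow_card_sub_X_natDegree_eq L hq2
    have hsub : Finset.univ.image ι ⊆ P.roots.toFinset := by
      intro y hy
      obtain ⟨a, -, rfl⟩ := Finset.mem_image.1 hy
      rw [Multiset.mem_toFinset, Polynomial.mem_roots hP]
      simp [P, ← map_pow, hq, FiniteField.pow_card]
    have hcard : P.roots.toFinset.card ≤ (Finset.univ.image ι).card := by
      rw [Finset.card_image_of_injective _ ι.injective, Finset.card_univ, ← hq]
      exact (Multiset.toFinset_card_le _).trans (hdeg ▸ Polynomial.card_roots' P)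
    have hx' : x ∈ P.roots.toFinset := by
      rw [Multiset.mem_toFinset, Polynomial.mem_roots hP]
      simp [P, ← hφ, hx]
    rw [← Finset.eq_of_subset_of_card_le hsub hcard] at hx'
    obtain ⟨a, -, ha⟩ := Finset.mem_image.1 hx'
    exact ⟨a, ha⟩
  have hιφ : ∀ a : F, φ (ι a) = ι a := fun a => by rw [hφ, ← map_pow, FiniteField.pow_card]
  obtain ⟨θ, hθ⟩ : ∃ θ : L, φ θ ≠ θ := by
    by_contra hno
    push Not at hno
    have hs : Function.Surjective ι := fun x => hfixF x (hno x)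
    have := Fintype.card_le_of_surjective ι hs
    rw [hL] at this
    nlinarith
  -- the idempotent of the twisted form
  obtain ⟨α, hα⟩ : ∃ α : L, α + φ α = 1 := by
    obtain ⟨y, hy⟩ : ∃ y : L, y + φ y ≠ 0 := by
      by_contra hno
      push Not at hno
      have h1 := hno 1
      rw [map_one] at h1
      exact hθ (by linear_combination hno θ - θ * h1)
    refine ⟨y / (y + φ y), ?_⟩
    rw [map_div₀, map_add, hφφ, add_comm (φ y) y, ← add_div, div_self hy]
  obtain ⟨c, hc⟩ : ∃ c : L, c * φ c = -(α * φ α) := by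
    obtain ⟨a, ha⟩ := hfixF (-(α * φ α)) (by rw [map_neg, map_mul, hφφ, mul_comm])
    obtain ⟨c, hc⟩ := FiniteField.norm_surjective F L a
    refine ⟨c, ?_⟩
    have hd : (Nat.card L - 1) / (Nat.card F - 1) = q + 1 := by
      rw [Nat.card_eq_fintype_card, Nat.card_eq_fintype_card, hL]
      refine Nat.div_eq_of_eq_mul_left (by omega) ?_
      simpa using Nat.sq_sub_sq q 1
    rw [← ha, ← hc, hφ, show ι (Algebra.norm F c) = algebraMap F L (Algebra.norm F c) from rfl,
      FiniteField.algebraMap_norm_eq_pow, hd, pow_succ']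
  let Φ : ↥(G2 L) →* ↥(G2 L) := mapG2 φ
  have hΦv : ∀ (g : ↥(G2 L)) (x : Fin 8 → L), φ ∘ (g2Mat g *ᵥ x) = g2Mat (Φ g) *ᵥ (φ ∘ x) := fun g x => by
    rw [g2Mat_mapG2]
    funext i
    exact RingHom.map_mulVec φ _ x i
  have hΦΦ : ∀ g, Φ (Φ g) = g := fun g => g2Mat_injective (by
    rw [g2Mat_mapG2, g2Mat_mapG2]
    ext i j
    simp [hφφ])
  have hΦn : Φ swapEl = swapEl := g2Mat_injective (by
    rw [g2Mat_mapG2, g2Mat_swapEl]
    ext i j
    rw [Matrix.map_apply, ev_apply, map_intCast])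
  set e' : Fin 8 → L := zMk α ![c, 0, 0] ![-φ c, 0, 0] (φ α) with he'
  have hT : octT e' = 1 := by simpa [e', octT, zMk] using hα
  have hQ : octQ e' = 0 := by simp [e', octQ, zMk]; linear_combination hc
  have hee : zornMul e' e' = e' := by rw [zornMul_self, hT, hQ, one_smul, zero_smul, sub_zero]
  have he0 : e' ≠ 0 := fun h => by simp [h, octT] at hT
  have he1 : e' ≠ octOne L := fun h => by simp [h, octT, octOne, zMk] at hT
  have hne : g2Mat swapEl *ᵥ (φ ∘ e') = e' := by
    have : φ ∘ e' = zMk (φ α) ![φ c, 0, 0] ![-c, 0, 0] α := by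
      funext i; fin_cases i <;> simp [e', zMk, hφφ]
    rw [this, g2Mat_swapEl, ev_swapS]
    funext i; fin_cases i <;> simp [e', zMk]
  obtain ⟨k, -, hk⟩ := reach_idemE hee he0 he1
  have hφe : φ ∘ idemE L = idemE L := by funext i; fin_cases i <;> simp [idemE, zMk]
  obtain ⟨N, hN⟩ := exists_sl3_of_fix (g := k * swapEl * (Φ k)⁻¹) (by
    have h1 : g2Mat (Φ k) *ᵥ (φ ∘ e') = idemE L := by rw [← hΦv, hk, hφe]
    rw [g2Mat_mul, g2Mat_mul, ← Matrix.mulVec_mulVec, ← Matrix.mulVec_mulVec]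
    nth_rewrite 1 [← h1]
    rw [Matrix.mulVec_mulVec _ (g2Mat (Φ k)⁻¹), g2Mat_inv_mul, Matrix.one_mulVec, hne, hk])
  have hNN : N.1 * N.1.map φ = 1 := by
    have h1 : N * Matrix.SpecialLinearGroup.map φ N = 1 := sl3G2_injective (by
      rw [map_mul, ← mapG2_sl3G2, hN, map_one]
      show k * swapEl * (Φ k)⁻¹ * Φ (k * swapEl * (Φ k)⁻¹) = 1
      rw [map_mul, map_mul, map_inv, hΦΦ, hΦn]
      calc _ = k * (swapEl * swapEl) * k⁻¹ := by group
        _ = 1 := by rw [swapEl_mul_self, mul_one, mul_inv_cancel])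
    exact congrArg Subtype.val h1
  -- vectors fixed by the semilinear map
  let θv : (Fin 3 → L) → Fin 3 → L := fun v => N.1 *ᵥ (φ ∘ v)
  have hθθ : ∀ v, θv (θv v) = v := fun v => by
    have : φ ∘ (N.1 *ᵥ (φ ∘ v)) = N.1.map φ *ᵥ v := by
      funext i
      refine (RingHom.map_mulVec φ _ _ i).trans ?_
      rw [show φ ∘ (φ ∘ v) = v from funext fun j => hφφ (v j)]
    show N.1 *ᵥ (φ ∘ (N.1 *ᵥ (φ ∘ v))) = v
    rw [this, Matrix.mulVec_mulVec, hNN, Matrix.one_mulVec]
  have hθadd : ∀ v w, θv (v + w) = θv v + θv w := fun v w => by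
    show N.1 *ᵥ (φ ∘ (v + w)) = N.1 *ᵥ (φ ∘ v) + N.1 *ᵥ (φ ∘ w)
    rw [← Matrix.mulVec_add]
    exact congrArg _ (funext fun i => map_add φ _ _)
  have hθsmul : ∀ (r : L) v, θv (r • v) = φ r • θv v := fun r v => by
    show N.1 *ᵥ (φ ∘ (r • v)) = φ r • (N.1 *ᵥ (φ ∘ v))
    rw [← Matrix.mulVec_smul]
    exact congrArg _ (funext fun i => map_mul φ _ _)
  have hspan : ⊤ ≤ Submodule.span L {v : Fin 3 → L | θv v = v} := fun v _ => by
    have h1 : θv (v + θv v) = v + θv v := by rw [hθadd, hθθ, add_comm]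
    have h2 : θv (θ • v + φ θ • θv v) = θ • v + φ θ • θv v := by
      rw [hθadd, hθsmul, hθsmul, hφφ, hθθ, add_comm]
    have h3 : (θ • v + φ θ • θv v) - φ θ • (v + θv v) = (θ - φ θ) • v := by
      rw [sub_smul, smul_add]; abel
    rw [← inv_smul_smul₀ (sub_ne_zero.2 (Ne.symm hθ)) v, ← h3]
    exact Submodule.smul_mem _ _ (Submodule.sub_mem _ (Submodule.subset_span h2)
      (Submodule.smul_mem _ _ (Submodule.subset_span h1)))
  let bas := Module.Basis.ofSpan hspan
  haveI := Module.Finite.finite_basis bas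
  haveI := Fintype.ofFinite ↑((linearIndepOn_empty L id).extend (Set.empty_subset
    {v : Fin 3 → L | θv v = v}))
  let b3 := bas.reindex (Fintype.equivFinOfCardEq
    ((Module.finrank_eq_card_basis bas).symm.trans (Module.finrank_fin_fun L)))
  have hb3 : ∀ j, θv (b3 j) = b3 j := fun j => by
    have := Module.Basis.ofSpan_subset hspan ⟨(Fintype.equivFinOfCardEq
      ((Module.finrank_eq_card_basis bas).symm.trans (Module.finrank_fin_fun L))).symm j, rfl⟩
    simp only [b3, Module.Basis.reindex_apply, bas]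
    exact this
  let Q : Matrix (Fin 3) (Fin 3) L := Matrix.of fun i j => b3 j i
  have hQu : IsUnit Q := Matrix.linearIndependent_cols_iff_isUnit.1 b3.linearIndependent
  have hd0 : Q.det ≠ 0 := ((Matrix.isUnit_iff_isUnit_det _).1 hQu).ne_zero
  have hNQ : N.1 * Q.map φ = Q := by
    ext i j
    exact congrFun (hb3 j) i
  have hdet : φ Q.det = Q.det := by
    have h1 := congrArg Matrix.det hNQ
    rw [det_mul, N.2, one_mul] at h1
    rw [RingHom.map_det]
    exact h1
  let P : Matrix.SpecialLinearGroup (Fin 3) L :=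
    ⟨Q * diagonal ![Q.det⁻¹, 1, 1], by
      rw [det_mul, det_diagonal]; simp [Fin.prod_univ_three, hd0]⟩
  have hNP : N * Matrix.SpecialLinearGroup.map φ P = P := by
    refine Subtype.ext ?_
    show N.1 * (Q * diagonal ![Q.det⁻¹, 1, 1]).map φ = Q * diagonal ![Q.det⁻¹, 1, 1]
    rw [Matrix.map_mul, ← Matrix.mul_assoc, hNQ]
    congr 1
    ext i j
    fin_cases i <;> fin_cases j <;> simp [hdet]
  set h := k⁻¹ * sl3G2 P with hh
  have hh' : swapEl * Φ h = h := by
    rw [hh, map_mul, map_inv, mapG2_sl3G2]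
    calc swapEl * ((Φ k)⁻¹ * sl3G2 (Matrix.SpecialLinearGroup.map φ P))
        = k⁻¹ * ((k * swapEl * (Φ k)⁻¹) * sl3G2 (Matrix.SpecialLinearGroup.map φ P)) := by group
      _ = _ := by rw [← hN, ← map_mul, hNP]
  have hswap : swapEl * sl3G2 (Matrix.SpecialLinearGroup.map φ M) * swapEl = sl3G2 M := by
    refine swap_sl3 _ _ ?_
    have h1 : ((Matrix.SpecialLinearGroup.map φ M)⁻¹).1 * ((Matrix.SpecialLinearGroup.map φ M)).1 = 1 := by
      rw [← Matrix.SpecialLinearGroup.coe_mul, inv_mul_cancel, Matrix.SpecialLinearGroup.coe_one]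
    have h2 : (M.1.map φ) * ((Matrix.SpecialLinearGroup.map φ M)⁻¹).1 = 1 := mul_eq_one_comm.1 h1
    calc M.1 = (((Matrix.SpecialLinearGroup.map φ M)⁻¹).1)ᵀ * ((M.1.map φ)ᵀ * M.1) := by
          rw [← Matrix.mul_assoc, ← transpose_mul, h2, transpose_one, Matrix.one_mul]
      _ = _ := by rw [hM, Matrix.mul_one]
  set x := h⁻¹ * sl3G2 M * h with hx
  have hΦx : Φ x = x := by
    have e1 : Φ h = swapEl * h := by
      conv_rhs => rw [← hh', ← mul_assoc, swapEl_mul_self, one_mul]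
    rw [hx, map_mul, map_mul, map_inv, e1, mapG2_sl3G2, ← hswap]
    have e2 : (swapEl : ↥(G2 L))⁻¹ = swapEl := inv_eq_of_mul_eq_one_right swapEl_mul_self
    rw [_root_.mul_inv_rev, e2]
    group
  obtain ⟨g, hg⟩ := exists_descend ι x fun i j => hfixF _ (by
    have := congrArg (fun y => g2Mat y i j) hΦx
    simp only [Φ, g2Mat_mapG2, Matrix.map_apply] at this
    exact this)
  refine ⟨g, ?_⟩
  rw [← orderOf_injective (mapG2 ι) (mapG2_injective ι) g, hg, hx,
    show h⁻¹ * sl3G2 M * h = MulAut.conj h⁻¹ (sl3G2 M) by simp, MulEquiv.orderOf_eq,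
    orderOf_injective sl3G2 sl3G2_injective]

end CfsgLib.G2Oct
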