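import Cfsg.Agent.G2Oct.Split
import Cfsg.Agent.SymSylow.SqDerived

/-!
A Sylow `2`-subgroup of `G₂(F)`, `F` of odd order, and the squares of its elements.

`twoGL2` is a Sylow `2`-subgroup of `GL₂(F)`: the `2`-part of `F[i]ˣ` extended by `diag(1, -1)`,
whether or not `-1` is a square.
-/

set_option autoImplicit false

namespace CfsgLib.G2Oct

open Matrix Cfsg.Lie CfsgLib.SymSylow.SqDer

open scoped commutatorElement

variable {F : Type*} [Field F]

local notation "Q2" => Matrix (Fin 2) (Fin 2) F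
local notation "G22" => GL (Fin 2) F

/-- `a + b i` as a matrix. -/
def cpx (a b : F) : Q2 := !![a, -b; b, a]

theorem cpx_mul (a b c d : F) : cpx a b * cpx c d = cpx (a * c - b * d) (a * d + b * c) := by
  ext i j; fin_cases i <;> fin_cases j <;> simp [cpx, Matrix.mul_apply, Fin.sum_univ_two] <;> ring

theorem det_cpx (a b : F) : (cpx a b).det = a ^ 2 + b ^ 2 := by
  simp [cpx, Matrix.det_fin_two]; ring

/-- The imaginary unit. -/
def iU : G22 :=
  ⟨cpx 0 1, cpx 0 (-1), by ext i j; fin_cases i <;> fin_cases j <;> simp [cpx],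
    by ext i j; fin_cases i <;> fin_cases j <;> simp [cpx]⟩

/-- The conjugation. -/
def sigU : G22 :=
  ⟨!![1, 0; 0, -1], !![1, 0; 0, -1], by ext i j; fin_cases i <;> fin_cases j <;> simp,
    by ext i j; fin_cases i <;> fin_cases j <;> simp⟩

theorem sigU_mul_self : (sigU : G22) * sigU = 1 := Units.ext (by
  ext i j; fin_cases i <;> fin_cases j <;> simp [sigU])

theorem det_sigU : ((sigU : G22) : Q2).det = -1 := by simp [sigU, Matrix.det_fin_two]

theorem sig_cpx_sig (a b : F) : (sigU : G22).1 * cpx a b * (sigU : G22).1 = cpx a (-b) := by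
  ext i j; fin_cases i <;> fin_cases j <;> simp [sigU, cpx, Matrix.mul_apply, Fin.sum_univ_two]

variable (F) in
/-- The multiplicative group of `F[i]`. -/
def torusI : Subgroup (GL (Fin 2) F) := Subgroup.centralizer {iU}

theorem mem_torusI {g : G22} : g ∈ torusI F ↔ ∃ a b, (g : Q2) = cpx a b := by
  rw [torusI, Subgroup.mem_centralizer_singleton_iff]
  constructor
  · intro h
    have h' : (g : Q2) * cpx 0 1 = cpx 0 1 * (g : Q2) := congrArg Units.val h
    refine ⟨(g : Q2) 0 0, (g : Q2) 1 0, ?_⟩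
    have e1 := congrFun (congrFun h' 0) 0
    have e2 := congrFun (congrFun h' 1) 0
    simp [cpx, Matrix.mul_apply, Fin.sum_univ_two] at e1 e2
    ext i j; fin_cases i <;> fin_cases j <;> simp [cpx, e1, e2]
  · rintro ⟨a, b, h⟩
    refine Units.ext ?_
    show (g : Q2) * cpx 0 1 = cpx 0 1 * (g : Q2)
    rw [h, cpx_mul, cpx_mul]
    congr 1 <;> ring

theorem torusI_comm {g h : G22} (hg : g ∈ torusI F) (hh : h ∈ torusI F) : g * h = h * g := by
  obtain ⟨a, b, hg⟩ := mem_torusI.1 hg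
  obtain ⟨c, d, hh⟩ := mem_torusI.1 hh
  refine Units.ext ?_
  rw [Units.val_mul, Units.val_mul, hg, hh, cpx_mul, cpx_mul]
  congr 1 <;> ring

theorem iU_mem_torusI : (iU : G22) ∈ torusI F := mem_torusI.2 ⟨0, 1, rfl⟩

theorem sigU_notMem_torusI (h2 : (2 : F) ≠ 0) : (sigU : G22) ∉ torusI F := by
  intro h
  obtain ⟨a, b, e⟩ := mem_torusI.1 h
  have e0 : (1 : F) = a := by simpa [sigU, cpx] using congrFun (congrFun e 0) 0
  have e1 : (-1 : F) = a := by simpa [sigU, cpx] using congrFun (congrFun e 1) 1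
  exact h2 (by linear_combination e0 - e1)

theorem sig_mul_sig_mem {g : G22} (hg : g ∈ torusI F) : sigU * g * sigU ∈ torusI F := by
  obtain ⟨a, b, e⟩ := mem_torusI.1 hg
  exact mem_torusI.2 ⟨a, -b, by rw [Units.val_mul, Units.val_mul, e, sig_cpx_sig]⟩

theorem sig_conj_pow (g : G22) (n : ℕ) : (sigU * g * sigU) ^ n = sigU * g ^ n * sigU := by
  induction n with
  | zero => rw [pow_zero, pow_zero, mul_one, sigU_mul_self]
  | succ n ih =>
    rw [pow_succ, ih, pow_succ]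
    simp only [mul_assoc]
    rw [← mul_assoc sigU sigU (g * sigU), sigU_mul_self, one_mul]

variable (F) in
/-- The `2`-part of `F[i]ˣ`. -/
def twoTorus : Subgroup (GL (Fin 2) F) where
  carrier := {g | g ∈ torusI F ∧ ∃ k : ℕ, g ^ 2 ^ k = 1}
  one_mem' := ⟨one_mem _, 0, one_pow _⟩
  mul_mem' {x y} hx hy := by
    obtain ⟨hx, k, hk⟩ := hx
    obtain ⟨hy, l, hl⟩ := hy
    refine ⟨mul_mem hx hy, k + l, ?_⟩
    rw [(show Commute x y from torusI_comm hx hy).mul_pow]
    rw [show (2 : ℕ) ^ (k + l) = 2 ^ k * 2 ^ l from pow_add 2 k l, pow_mul, hk, one_pow, one_mul,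
      mul_comm (2 ^ k), pow_mul, hl, one_pow]
  inv_mem' {x} hx := by
    obtain ⟨hx, k, hk⟩ := hx
    exact ⟨inv_mem hx, k, by rw [inv_pow, hk, inv_one]⟩

theorem mem_twoTorus {g : G22} : g ∈ twoTorus F ↔ g ∈ torusI F ∧ ∃ k : ℕ, g ^ 2 ^ k = 1 := Iff.rfl

theorem sig_conj_twoTorus {g : G22} (hg : g ∈ twoTorus F) : sigU * g * sigU ∈ twoTorus F := by
  obtain ⟨hg, k, hk⟩ := hg
  exact ⟨sig_mul_sig_mem hg, k, by rw [sig_conj_pow, hk, mul_one, sigU_mul_self]⟩

theorem iU_mem_twoTorus : (iU : G22) ∈ twoTorus F := by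
  refine ⟨iU_mem_torusI, 2, Units.ext ?_⟩
  rw [Units.val_pow_eq_pow_val, show (2 : ℕ) ^ 2 = 4 by norm_num]
  show cpx (0 : F) 1 ^ 4 = 1
  rw [pow_succ, pow_succ, pow_succ, pow_one, cpx_mul, cpx_mul, cpx_mul]
  ext i j; fin_cases i <;> fin_cases j <;> simp [cpx]

variable (F) in
/-- The `2`-part of `F[i]ˣ` extended by the conjugation. -/
def twoGL2 : Subgroup (GL (Fin 2) F) where
  carrier := {g | g ∈ twoTorus F ∨ g * sigU ∈ twoTorus F}
  one_mem' := Or.inl (one_mem _)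
  mul_mem' {x y} hx hy := by
    rcases hx with hx | hx <;> rcases hy with hy | hy
    · exact Or.inl (mul_mem hx hy)
    · exact Or.inr (by rw [mul_assoc]; exact mul_mem hx hy)
    · refine Or.inr ?_
      rw [show x * y * sigU = x * sigU * (sigU * y * sigU) by
        simp only [mul_assoc]; rw [← mul_assoc sigU sigU, sigU_mul_self, one_mul]]
      exact mul_mem hx (sig_conj_twoTorus hy)
    · refine Or.inl ?_
      rw [show x * y = x * sigU * (sigU * (y * sigU) * sigU) by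
        simp only [mul_assoc]; rw [sigU_mul_self, mul_one, ← mul_assoc sigU sigU, sigU_mul_self, one_mul]]
      exact mul_mem hx (sig_conj_twoTorus hy)
  inv_mem' {x} hx := by
    rcases hx with hx | hx
    · exact Or.inl (inv_mem hx)
    · refine Or.inr ?_
      rw [show x⁻¹ * sigU = sigU * (x * sigU)⁻¹ * sigU by
        rw [_root_.mul_inv_rev, inv_eq_of_mul_eq_one_right sigU_mul_self, ← mul_assoc sigU sigU,
          sigU_mul_self, one_mul]]
      exact sig_conj_twoTorus (inv_mem hx)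

theorem mem_twoGL2 {g : G22} : g ∈ twoGL2 F ↔ g ∈ twoTorus F ∨ g * sigU ∈ twoTorus F := Iff.rfl

theorem sigU_mem_twoGL2 : (sigU : G22) ∈ twoGL2 F :=
  Or.inr (by rw [sigU_mul_self]; exact one_mem _)

theorem mul_sig_mem {t : G22} (ht : t ∈ twoTorus F) : t * sigU ∈ twoGL2 F :=
  Or.inr (by rw [mul_assoc, sigU_mul_self, mul_one]; exact ht)

/-- The square of an element outside the torus is scalar. -/
theorem sq_coset {g : G22} (hg : g * sigU ∈ twoTorus F) :
    (g : Q2) * (g : Q2) = (-(g : Q2).det) • (1 : Q2) := by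
  obtain ⟨a, b, e⟩ := mem_torusI.1 hg.1
  have h1 : g = (g * sigU) * sigU := by rw [mul_assoc, sigU_mul_self, mul_one]
  rw [h1, Units.val_mul, e, det_mul, det_cpx, det_sigU, Matrix.mul_assoc, ← Matrix.mul_assoc (sigU : G22).1,
    sig_cpx_sig, cpx_mul]
  ext i j; fin_cases i <;> fin_cases j <;> simp [cpx] <;> ring

/-- An element of determinant `1` outside the torus anticommutes with another element outside. -/
theorem exists_anticomm {g : G22} (hg : g * sigU ∈ twoTorus F) :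
    ∃ z : G22, z * sigU ∈ twoTorus F ∧ g * z = (-1) * (z * g) := by
  refine ⟨g * sigU * iU * sigU, ?_, ?_⟩
  · rw [mul_assoc _ sigU sigU, sigU_mul_self, mul_one]
    exact mul_mem hg iU_mem_twoTorus
  · obtain ⟨a, b, e⟩ := mem_torusI.1 hg.1
    have h1 : g = (g * sigU) * sigU := by rw [mul_assoc, sigU_mul_self, mul_one]
    set t := g * sigU with ht
    rw [h1]
    refine Units.ext ?_
    simp only [Units.val_mul, Units.val_neg, Units.val_one, e]
    ext i j
    fin_cases i <;> fin_cases j <;>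
      simp [cpx, sigU, iU, Matrix.mul_apply, Fin.sum_univ_two] <;> ring

variable [Fintype F]

theorem two_ne_zero_of_odd (hF : Odd (Fintype.card F)) : (2 : F) ≠ 0 :=
  Ring.two_ne_zero (fun h => by
    have h2 := (FiniteField.even_card_iff_char_two (F := F)).1 h
    have := Nat.odd_iff.1 hF
    omega)

theorem exists_det_neg_one (hF : Odd (Fintype.card F)) :
    ∃ y ∈ twoTorus F, (y : Q2).det = -1 := by
  obtain ⟨a, b, hab⟩ : ∃ a b : F, a ^ 2 + b ^ 2 = -1 := by
    obtain ⟨a, b, h⟩ := FiniteField.exists_root_sum_quadratic (f := (Polynomial.X : Polynomial F) ^ 2)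
      (g := (Polynomial.X : Polynomial F) ^ 2 + Polynomial.C 1) (Polynomial.degree_X_pow 2)
      (Polynomial.degree_X_pow_add_C two_pos 1) (Nat.odd_iff.1 hF)
    exact ⟨a, b, by simp at h; linear_combination h⟩
  have hu : IsUnit (cpx a b) := by
    rw [Matrix.isUnit_iff_isUnit_det, det_cpx, hab]
    exact isUnit_one.neg
  set y0 : G22 := hu.unit
  obtain ⟨k, m, hm, hkm⟩ := Nat.exists_eq_two_pow_mul_odd
    (n := Nat.card ↥(torusI F)) Nat.card_pos.ne'
  have hy0 : y0 ∈ torusI F := mem_torusI.2 ⟨a, b, rfl⟩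
  refine ⟨y0 ^ m, ⟨pow_mem hy0 m, k, ?_⟩, ?_⟩
  · rw [← pow_mul, mul_comm, ← hkm]
    exact congrArg Subtype.val (pow_card_eq_one' (x := (⟨y0, hy0⟩ : ↥(torusI F))))
  · rw [Units.val_pow_eq_pow_val, det_pow]
    show (cpx a b).det ^ m = -1
    rw [det_cpx, hab, hm.neg_one_pow]

theorem card_twoTorus :
    Nat.card ↥(twoTorus F) = 2 ^ (Nat.card ↥(torusI F)).factorization 2 := by
  classical
  haveI : Fact (Nat.Prime 2) := ⟨Nat.prime_two⟩
  obtain ⟨S⟩ := (inferInstance : Nonempty (Sylow 2 ↥(torusI F)))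
  haveI : IsMulCommutative ↥(torusI F) := ⟨⟨fun x y => Subtype.ext (torusI_comm x.2 y.2)⟩⟩
  have hS : (S : Subgroup ↥(torusI F)).map (torusI F).subtype = twoTorus F := by
    apply le_antisymm
    · rintro _ ⟨x, hx, rfl⟩
      obtain ⟨k, hk⟩ := S.2 ⟨x, hx⟩
      exact ⟨x.2, k, congrArg (fun z : ↥(S : Subgroup ↥(torusI F)) => ((z : ↥(torusI F)) : G22)) hk⟩
    · intro x hx
      obtain ⟨hxE, k, hk⟩ := hx
      set x' : ↥(torusI F) := ⟨x, hxE⟩
      have hx' : x' ^ 2 ^ k = 1 := Subtype.ext hk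
      have hp : IsPGroup 2 (Subgroup.zpowers x') := by
        obtain ⟨j, -, hj⟩ := (Nat.dvd_prime_pow Nat.prime_two).1 (orderOf_dvd_of_pow_eq_one hx')
        exact IsPGroup.of_card (n := j) (by rw [Nat.card_zpowers, hj])
      haveI : (S : Subgroup ↥(torusI F)).Normal := ⟨fun n hn g => by
        rwa [show g * n * g⁻¹ = n by rw [mul_comm' g n, mul_assoc, mul_inv_cancel, mul_one]]⟩
      have h1 := S.3 (S.2.to_sup_of_normal_left hp) le_sup_left
      have h2 : x' ∈ (S : Subgroup ↥(torusI F)) :=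
        h1 ▸ Subgroup.mem_sup_right (Subgroup.mem_zpowers x')
      exact ⟨x', h2, rfl⟩
  rw [← hS, ← Nat.card_congr ((S : Subgroup ↥(torusI F)).equivMapOfInjective _
    Subtype.coe_injective).toEquiv]
  exact S.card_eq_multiplicity

theorem card_twoGL2 (hF : Odd (Fintype.card F)) :
    Nat.card ↥(twoGL2 F) = 2 * Nat.card ↥(twoTorus F) := by
  classical
  rw [two_mul, ← Nat.card_sum]
  refine (Nat.card_congr (Equiv.ofBijective
    (Sum.elim (fun t : ↥(twoTorus F) => (⟨t, Or.inl t.2⟩ : ↥(twoGL2 F)))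
      (fun t : ↥(twoTorus F) => (⟨(t : G22) * sigU, mul_sig_mem t.2⟩ : ↥(twoGL2 F)))) ⟨?_, ?_⟩)).symm
  · have hd : ∀ s t : ↥(twoTorus F), (s : G22) ≠ (t : G22) * sigU := fun s t h =>
      sigU_notMem_torusI (two_ne_zero_of_odd hF)
        (show sigU ∈ torusI F by
          rw [show sigU = (t : G22)⁻¹ * (s : G22) by rw [h, inv_mul_cancel_left]]
          exact mul_mem (inv_mem t.2.1) s.2.1)
    rintro (s | s) (t | t) h
    · exact congrArg Sum.inl (Subtype.ext (congrArg Subtype.val h :))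
    · exact absurd (congrArg Subtype.val h :) (hd s t)
    · exact absurd (congrArg Subtype.val h :).symm (hd t s)
    · exact congrArg Sum.inr (Subtype.ext (mul_right_cancel (congrArg Subtype.val h :)))
  · rintro ⟨g, hg | hg⟩
    · exact ⟨Sum.inl ⟨g, hg⟩, rfl⟩
    · exact ⟨Sum.inr ⟨g * sigU, hg⟩, Subtype.ext (by
        show g * sigU * sigU = g
        rw [mul_assoc, sigU_mul_self, mul_one])⟩

theorem card_torusI :
    Nat.card ↥(torusI F) = Nat.card {p : F × F // p.1 ^ 2 + p.2 ^ 2 ≠ 0} := by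
  classical
  refine (Nat.card_congr (Equiv.ofBijective
    (fun p : {p : F × F // p.1 ^ 2 + p.2 ^ 2 ≠ 0} =>
      (⟨((Matrix.isUnit_iff_isUnit_det _).2 (by rw [det_cpx]; exact isUnit_iff_ne_zero.2 p.2) :
          IsUnit (cpx p.1.1 p.1.2)).unit, mem_torusI.2 ⟨p.1.1, p.1.2, rfl⟩⟩ : ↥(torusI F))) ⟨?_, ?_⟩)).symm
  · intro p p' h
    have h' : cpx p.1.1 p.1.2 = cpx p'.1.1 p'.1.2 :=
      congrArg (fun z : ↥(torusI F) => ((z : G22) : Q2)) h
    refine Subtype.ext (Prod.ext ?_ ?_)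
    · simpa [cpx] using congrFun (congrFun h' 0) 0
    · simpa [cpx] using congrFun (congrFun h' 1) 0
  · rintro ⟨g, hg⟩
    obtain ⟨a, b, e⟩ := mem_torusI.1 hg
    refine ⟨⟨(a, b), ?_⟩, Subtype.ext (Units.ext e.symm)⟩
    rw [← det_cpx, ← e]
    exact ((Matrix.isUnit_iff_isUnit_det _).1 g.isUnit).ne_zero

theorem exists_index_torusI (hF : Odd (Fintype.card F)) :
    ∃ m, Odd m ∧ Nat.card G22 = Nat.card ↥(torusI F) * (2 * m) := by
  classical
  set q := Fintype.card F with hq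
  have hq2 : 2 ≤ q := Fintype.one_lt_card
  have h2 := two_ne_zero_of_odd hF
  have hGL : Nat.card G22 = (q ^ 2 - 1) * (q ^ 2 - q) := by
    rw [Matrix.card_GL_field, Fin.prod_univ_two, ← hq]
    simp
  have hodd := Nat.odd_iff.1 hF
  rw [card_torusI]
  obtain ⟨r, hr⟩ : ∃ r, q = r + 1 := ⟨q - 1, by omega⟩
  have e1 : q ^ 2 - 1 = r * (q + 1) := by
    rw [hr, Nat.sub_eq_iff_eq_add (Nat.one_le_pow _ _ (by omega))]; ring
  have e2 : q ^ 2 - q = r * q := by
    rw [hr, Nat.sub_eq_iff_eq_add (by rw [sq]; exact Nat.le_mul_self _)]; ring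
  by_cases hsq : IsSquare (-1 : F)
  · obtain ⟨s, hs⟩ := hsq
    have hcard : Nat.card {p : F × F // p.1 ^ 2 + p.2 ^ 2 ≠ 0} = r * r := by
      have hu : Nat.card Fˣ = r := by rw [Nat.card_units, Nat.card_eq_fintype_card, ← hq]; omega
      rw [← hu, ← Nat.card_prod]
      refine Nat.card_congr
        { toFun := fun p => (Units.mk0 (p.1.1 + s * p.1.2) (fun h => p.2 (by
            linear_combination (p.1.1 - s * p.1.2) * h - p.1.2 ^ 2 * hs)),
            Units.mk0 (p.1.1 - s * p.1.2) (fun h => p.2 (by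
            linear_combination (p.1.1 + s * p.1.2) * h - p.1.2 ^ 2 * hs)))
          invFun := fun u => ⟨(((u.1 : F) + u.2) / 2, -s * (((u.1 : F) - u.2) / 2)), ?_⟩
          left_inv := fun p => Subtype.ext (Prod.ext ?_ ?_)
          right_inv := fun u => Prod.ext (Units.ext ?_) (Units.ext ?_) }
      · intro h
        refine mul_ne_zero u.1.ne_zero u.2.ne_zero ?_
        simp only at h
        field_simp at h
        have h4 : (4 : F) * ((u.1 : F) * u.2) = 0 := by
          linear_combination h + ((u.1 : F) - u.2) ^ 2 * hs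
        refine (mul_eq_zero.1 h4).resolve_left ?_
        rw [show (4 : F) = 2 * 2 by norm_num]
        exact mul_ne_zero h2 h2
      · simp only [Units.val_mk0]
        field_simp
        ring
      · simp only [Units.val_mk0]
        field_simp
        linear_combination 2 * p.1.2 * hs
      · simp only [Units.val_mk0]
        field_simp
        linear_combination ((u.1 : F) - u.2) * hs
      · simp only [Units.val_mk0]
        field_simp
        linear_combination -((u.1 : F) - u.2) * hs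
    have h4 : q % 4 = 1 := by
      have h3 : q % 4 ≠ 3 := (FiniteField.isSquare_neg_one_iff (F := F)).1 ⟨s, hs⟩
      omega
    refine ⟨q * ((q + 1) / 2), Odd.mul hF (Nat.odd_iff.2 (by omega)), ?_⟩
    rw [hGL, hcard, e1, e2]
    have : 2 * ((q + 1) / 2) = q + 1 := Nat.mul_div_cancel' (by omega)
    calc r * (q + 1) * (r * q) = r * r * (q * (q + 1)) := by ring
      _ = r * r * (q * (2 * ((q + 1) / 2))) := by rw [this]
      _ = _ := by ring
  · have hcard : Nat.card {p : F × F // p.1 ^ 2 + p.2 ^ 2 ≠ 0} = q ^ 2 - 1 := by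
      have hzero : ∀ p : F × F, p.1 ^ 2 + p.2 ^ 2 = 0 ↔ p = 0 := by
        intro p
        refine ⟨fun h => ?_, fun h => by simp [h]⟩
        have hp2 : p.2 = 0 := by
          by_contra hne
          exact hsq ⟨p.1 / p.2, by field_simp; linear_combination -h⟩
        rw [hp2] at h
        exact Prod.ext (by simpa using h) hp2
      rw [Nat.card_congr (Equiv.subtypeEquivRight (fun p : F × F => (hzero p).not)),
        Nat.card_eq_fintype_card, Fintype.card_subtype_compl, Fintype.card_prod, ← hq, sq]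
      simp
    have h4 : q % 4 = 3 := by
      by_contra h3
      exact hsq ((FiniteField.isSquare_neg_one_iff (F := F)).2 h3)
    refine ⟨q * (r / 2), Odd.mul hF (Nat.odd_iff.2 (by omega)), ?_⟩
    rw [hGL, hcard, e2]
    have : 2 * (r / 2) = r := Nat.mul_div_cancel' (by omega)
    calc (q ^ 2 - 1) * (r * q) = (q ^ 2 - 1) * (q * (2 * (r / 2))) := by rw [this]; ring
      _ = _ := by ring

/-- `twoGL2` is a maximal `2`-subgroup. -/
theorem eq_twoGL2_of_le (hF : Odd (Fintype.card F)) {Q : Subgroup G22} (hQ : IsPGroup 2 Q)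
    (hle : twoGL2 F ≤ Q) : Q = twoGL2 F := by
  haveI : Fact (Nat.Prime 2) := ⟨Nat.prime_two⟩
  obtain ⟨m, hm, hcard⟩ := exists_index_torusI hF
  have hc : Nat.card ↥(twoGL2 F) = 2 ^ (Nat.card G22).factorization 2 := by
    rw [card_twoGL2 hF, card_twoTorus, hcard, ← mul_assoc, mul_comm _ 2,
      Nat.factorization_mul (Nat.mul_ne_zero two_ne_zero Nat.card_pos.ne')
        (by rintro rfl; exact Nat.not_odd_zero hm),
      Nat.factorization_mul two_ne_zero Nat.card_pos.ne']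
    simp [Nat.Prime.factorization_self Nat.prime_two,
      Nat.factorization_eq_zero_of_not_dvd (fun h => (Nat.odd_iff.1 hm).symm.trans_ne (by omega) rfl :
        ¬ 2 ∣ m), pow_add]
  exact (Sylow.ofCard (twoGL2 F) hc).3 hQ hle

/-! ### The Sylow subgroup of `G₂` -/

variable (F) in
/-- Pairs in `twoGL2` of equal determinant. -/
def twoPairs : Subgroup ↥(detEq F) := ((twoGL2 F).prod (twoGL2 F)).comap (detEq F).subtype

variable (F) in
/-- A Sylow `2`-subgroup of `G₂(F)`. -/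
noncomputable def twoG2 : Subgroup ↥(G2 F) := (twoPairs F).map (toG2 (F := F))

omit [Fintype F] in
theorem diag_mem {g : G22} (hg : g ∈ twoGL2 F) :
    (⟨(g, g), rfl⟩ : ↥(detEq F)) ∈ twoPairs F := ⟨hg, hg⟩

omit [Fintype F] in
theorem left_mem {g : G22} (hg : g ∈ twoGL2 F) (hd : (g : Q2).det = 1) :
    (⟨(g, 1), mem_detEq.2 (by rw [hd, Units.val_one, det_one])⟩ : ↥(detEq F)) ∈ twoPairs F :=
  ⟨hg, one_mem _⟩

omit [Fintype F] in
theorem right_mem {g : G22} (hg : g ∈ twoGL2 F) (hd : (g : Q2).det = 1) :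
    (⟨(1, g), mem_detEq.2 (by rw [hd, Units.val_one, det_one])⟩ : ↥(detEq F)) ∈ twoPairs F :=
  ⟨one_mem _, hg⟩

theorem isPGroup_twoPairs (hF : Odd (Fintype.card F)) : IsPGroup 2 ↥(twoPairs F) := by
  haveI : Fact (Nat.Prime 2) := ⟨Nat.prime_two⟩
  have hp : IsPGroup 2 ↥(twoGL2 F) := IsPGroup.of_card
    (n := (Nat.card ↥(torusI F)).factorization 2 + 1)
    (by rw [card_twoGL2 hF, card_twoTorus, pow_succ, mul_comm])
  intro x
  obtain ⟨k, hk⟩ := hp ⟨_, x.2.1⟩
  obtain ⟨l, hl⟩ := hp ⟨_, x.2.2⟩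
  refine ⟨k + l, Subtype.ext (Subtype.ext (Prod.ext ?_ ?_))⟩
  · have hk' : x.1.1.1 ^ 2 ^ k = 1 := congrArg (fun z : ↥(twoGL2 F) => (z : G22)) hk
    show x.1.1.1 ^ 2 ^ (k + l) = 1
    rw [pow_add, pow_mul, hk', one_pow]
  · have hl' : x.1.1.2 ^ 2 ^ l = 1 := congrArg (fun z : ↥(twoGL2 F) => (z : G22)) hl
    show x.1.1.2 ^ 2 ^ (k + l) = 1
    rw [pow_add, mul_comm, pow_mul, hl', one_pow]

theorem eq_twoPairs_of_le (hF : Odd (Fintype.card F)) {Q : Subgroup ↥(detEq F)} (hQ : IsPGroup 2 Q)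
    (hle : twoPairs F ≤ Q) : Q = twoPairs F := by
  let f1 : ↥(detEq F) →* G22 := (MonoidHom.fst G22 G22).comp (detEq F).subtype
  let f2 : ↥(detEq F) →* G22 := (MonoidHom.snd G22 G22).comp (detEq F).subtype
  have h1 : Q.map f1 = twoGL2 F :=
    eq_twoGL2_of_le hF (hQ.map f1) fun g hg => ⟨⟨(g, g), rfl⟩, hle (diag_mem hg), rfl⟩
  have h2 : Q.map f2 = twoGL2 F :=
    eq_twoGL2_of_le hF (hQ.map f2) fun g hg => ⟨⟨(g, g), rfl⟩, hle (diag_mem hg), rfl⟩
  refine le_antisymm (fun x hx => ⟨?_, ?_⟩) hle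
  · exact h1 ▸ ⟨x, hx, rfl⟩
  · exact h2 ▸ ⟨x, hx, rfl⟩

/-- A `2`-subgroup of the centralizer of `t0` containing `twoG2` equals it. -/
theorem eq_twoG2_of_le_centralizer (hF : Odd (Fintype.card F)) {Q : Subgroup ↥(G2 F)}
    (hQ : IsPGroup 2 Q) (hle : twoG2 F ≤ Q) (hcomm : ∀ x ∈ Q, x * t0 F = t0 F * x) :
    Q = twoG2 F := by
  haveI : Fact (Nat.Prime 2) := ⟨Nat.prime_two⟩
  let f := (toG2 (F := F)).rangeRestrict
  have hf : Function.Surjective f := MonoidHom.rangeRestrict_surjective _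
  let S : Sylow 2 ↥(detEq F) :=
    { toSubgroup := twoPairs F
      isPGroup' := isPGroup_twoPairs hF
      is_maximal' := fun hQ hle => eq_twoPairs_of_le hF hQ hle }
  have hQr : Q ≤ (toG2 (F := F)).range := fun x hx =>
    exists_pair_of_comm (two_ne_zero_of_odd hF) x (hcomm x hx)
  have h1 := (S.mapSurjective hf).3 (Q := Q.subgroupOf (toG2 (F := F)).range)
    (hQ.of_equiv (Subgroup.subgroupOfEquivOfLe hQr).symm) (by
      rintro _ ⟨x, hx, rfl⟩
      rw [Subgroup.mem_subgroupOf]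
      exact hle ⟨x, hx, rfl⟩)
  refine le_antisymm (fun x hx => ?_) hle
  have h2 : (⟨x, hQr hx⟩ : (toG2 (F := F)).range) ∈
      ((S.mapSurjective hf : Sylow 2 _) : Subgroup _) := h1 ▸ (Subgroup.mem_subgroupOf.2 hx)
  obtain ⟨y, hy, hyx⟩ := h2
  exact ⟨y, hy, congrArg Subtype.val hyx⟩

theorem t0_mem_twoG2 : t0 F ∈ twoG2 F := by
  refine ⟨negPair F, ⟨one_mem _, Or.inl ⟨mem_torusI.2 ⟨-1, 0, ?_⟩, 1, ?_⟩⟩, rfl⟩
  · show ((-1 : G22) : Q2) = cpx (-1) 0
    ext i j; fin_cases i <;> fin_cases j <;> simp [cpx]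
  · show (-1 : G22) ^ 2 ^ 1 = 1
    rw [pow_one, neg_one_sq]

theorem eq_scalar_of_comm {y A : G22} (h2 : (2 : F) ≠ 0) (hy : y ∈ twoTorus F) (h1 : A * iU = iU * A)
    (h3 : A * (y * sigU) = y * sigU * A) : ∃ a : F, (A : Q2) = a • (1 : Q2) := by
  have hA : A ∈ torusI F := Subgroup.mem_centralizer_singleton_iff.2 h1
  obtain ⟨a, b, e⟩ := mem_torusI.1 hA
  have h4 : A = sigU * A * sigU := by
    rw [← mul_assoc, torusI_comm hA hy.1, mul_assoc, mul_assoc] at h3
    calc A = A * (sigU * sigU) := by rw [sigU_mul_self, mul_one]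
      _ = (A * sigU) * sigU := by rw [mul_assoc]
      _ = _ := by rw [mul_left_cancel h3]
  have h5 : cpx a b = cpx a (-b) := by
    rw [← sig_cpx_sig a b, ← e]
    exact congrArg Units.val h4
  have hb : b = 0 := by
    have : b = -b := by simpa [cpx] using congrFun (congrFun h5 1) 0
    exact mul_left_cancel₀ h2 (by linear_combination this)
  refine ⟨a, ?_⟩
  rw [e, hb]
  ext i j; fin_cases i <;> fin_cases j <;> simp [cpx]

/-- The centre of `twoG2` is `{1, t0}`. -/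
theorem center_twoG2 (hF : Odd (Fintype.card F)) {p : ↥(G2 F)} (hp : p ∈ twoG2 F)
    (hc : ∀ x ∈ twoG2 F, p * x = x * p) : p = 1 ∨ p = t0 F := by
  have h2 := two_ne_zero_of_odd hF
  obtain ⟨g, hg, rfl⟩ := hp
  obtain ⟨y, hy, hyd⟩ := exists_det_neg_one hF
  have hS2d : ((y * sigU : G22) : Q2).det = 1 := by
    rw [Units.val_mul, det_mul, hyd, det_sigU]; ring
  have hid : ((iU : G22) : Q2).det = 1 := by show (cpx (0 : F) 1).det = 1; rw [det_cpx]; ring
  have key : ∀ r ∈ twoPairs F, g.1.2 * r.1.2 * g.1.2⁻¹ * r.1.2⁻¹ = g.1.1 * r.1.1 * g.1.1⁻¹ * r.1.1⁻¹ := by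
    intro r hr
    have h1 : toG2 (g * r * g⁻¹ * r⁻¹) = 1 := by
      rw [map_mul, map_mul, map_mul, map_inv, map_inv, hc _ ⟨r, hr, rfl⟩, mul_inv_cancel_right,
        mul_inv_cancel]
    exact eq_of_toG2_eq_one h1
  have hcom : ∀ S : G22, S ∈ twoGL2 F → (S : Q2).det = 1 →
      g.1.1 * S = S * g.1.1 ∧ g.1.2 * S = S * g.1.2 := by
    intro S hS hd
    have h1 := key _ (left_mem hS hd)
    have h3 := key _ (right_mem hS hd)
    dsimp only at h1 h3
    rw [mul_one, mul_inv_cancel, inv_one, mul_one] at h1 h3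
    refine ⟨?_, ?_⟩
    · rwa [eq_comm, mul_inv_eq_one, mul_inv_eq_iff_eq_mul] at h1
    · rwa [mul_inv_eq_one, mul_inv_eq_iff_eq_mul] at h3
  obtain ⟨hi1, hi2⟩ := hcom iU (Or.inl iU_mem_twoTorus) hid
  obtain ⟨hy1, hy2⟩ := hcom (y * sigU) (mul_sig_mem hy) hS2d
  obtain ⟨a, ha⟩ := eq_scalar_of_comm h2 hy hi1 hy1
  obtain ⟨b, hb⟩ := eq_scalar_of_comm h2 hy hi2 hy2
  have hdet := mem_detEq.1 g.2
  rw [ha, hb, det_smul, det_smul, det_one, mul_one, mul_one, Fintype.card_fin] at hdet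
  rcases sq_eq_sq_iff_eq_or_eq_neg.1 hdet.symm with h | h
  · exact Or.inl (toG2_scalar ha (h ▸ hb))
  · refine Or.inr ?_
    rw [show g = g * (negPair F)⁻¹ * negPair F from (inv_mul_cancel_right _ _).symm, map_mul,
      toG2_scalar (g := g * (negPair F)⁻¹) (a := a) ?_ ?_, one_mul]
    · rfl
    · show ((g.1.1 * (1 : G22)⁻¹ : G22) : Q2) = _
      rw [inv_one, mul_one, ha]
    · show ((g.1.2 * (-1 : G22)⁻¹ : G22) : Q2) = _
      rw [show (-1 : G22)⁻¹ = -1 from inv_eq_of_mul_eq_one_right (by rw [neg_mul_neg, one_mul]), Units.val_mul, Units.val_neg, Units.val_one, hb, h]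
      simp

/-- `twoG2` is a maximal `2`-subgroup of `G₂(F)`. -/
theorem eq_twoG2_of_le (hF : Odd (Fintype.card F)) {Q : Subgroup ↥(G2 F)} (hQ : IsPGroup 2 Q)
    (hle : twoG2 F ≤ Q) : Q = twoG2 F := by
  classical
  haveI : Fact (Nat.Prime 2) := ⟨Nat.prime_two⟩
  have h2 := two_ne_zero_of_odd hF
  haveI : Nontrivial ↥Q := ⟨⟨⟨t0 F, hle t0_mem_twoG2⟩, 1,
    fun h => t0_ne_one h2 (congrArg Subtype.val h)⟩⟩
  haveI : Finite ↥Q := Subtype.finite
  obtain ⟨z, hz1⟩ : ∃ z : Subgroup.center ↥Q, z ≠ 1 := by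
    haveI := hQ.center_nontrivial
    exact exists_ne 1
  have hzc : ∀ x ∈ Q, ((z : ↥Q) : ↥(G2 F)) * x = x * ((z : ↥Q) : ↥(G2 F)) := fun x hx =>
    (congrArg Subtype.val (Subgroup.mem_center_iff.1 z.2 ⟨x, hx⟩)).symm
  let C : Subgroup ↥(G2 F) := Subgroup.centralizer {t0 F}
  have hPC : twoG2 F ≤ C := by
    rintro _ ⟨g, -, rfl⟩
    exact Subgroup.mem_centralizer_singleton_iff.2 (toG2_comm_t0 g)
  have hQC : Q ⊓ C = twoG2 F := eq_twoG2_of_le_centralizer hF (hQ.to_le inf_le_left)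
    (le_inf hle hPC) (fun x hx => Subgroup.mem_centralizer_singleton_iff.1 hx.2)
  have hzP : ((z : ↥Q) : ↥(G2 F)) ∈ twoG2 F := hQC ▸
    ⟨(z : ↥Q).2, Subgroup.mem_centralizer_singleton_iff.2 (hzc _ (hle t0_mem_twoG2))⟩
  rcases center_twoG2 hF hzP (fun x hx => hzc x (hle hx)) with h | h
  · exact absurd (Subtype.ext (Subtype.ext h)) hz1
  · rw [← hQC, left_eq_inf]
    intro x hx
    exact Subgroup.mem_centralizer_singleton_iff.2 (by rw [← h]; exact (hzc x hx).symm)

/-- Squares in `twoG2` lie in its derived subgroup. -/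
theorem sqDer_twoG2 (hF : Odd (Fintype.card F)) : SqDer (twoG2 F) := by
  classical
  let gens : Set ↥(G2 F) := {x | ∃ r ∈ twoPairs F, toG2 r = x ∧
    r.1.1 * sigU ∈ twoTorus F ∧ (r.1.2 = r.1.1 ∨ (r.1.2 = 1 ∧ (r.1.1 : Q2).det = 1))}
  refine sqDer_of_closure (S := gens) ?_ ?_ ?_
  · rintro _ ⟨r, hr, rfl, -⟩
    exact ⟨r, hr, rfl⟩
  · have hd : ∀ g (hg : g ∈ twoGL2 F), toG2 ⟨(g, g), rfl⟩ ∈ Subgroup.closure gens := by
      have hbase : ∀ g : G22, g * sigU ∈ twoTorus F → toG2 ⟨(g, g), rfl⟩ ∈ Subgroup.closure gens :=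
        fun g hg => Subgroup.subset_closure ⟨_, diag_mem (Or.inr hg), rfl, hg, Or.inl rfl⟩
      rintro g (hg | hg)
      · have e : (⟨(g, g), rfl⟩ : ↥(detEq F)) = ⟨(g * sigU, g * sigU), rfl⟩ * ⟨(sigU, sigU), rfl⟩ :=
          Subtype.ext (Prod.ext (by show g = g * sigU * sigU; rw [mul_assoc, sigU_mul_self, mul_one])
            (by show g = g * sigU * sigU; rw [mul_assoc, sigU_mul_self, mul_one]))
        rw [e, map_mul]
        exact mul_mem (hbase _ (by rw [mul_assoc, sigU_mul_self, mul_one]; exact hg))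
          (hbase _ (by rw [sigU_mul_self]; exact one_mem _))
      · exact hbase g hg
    obtain ⟨y, hy, hyd⟩ := exists_det_neg_one hF
    have hzd : ((y * sigU : G22) : Q2).det = 1 := by
      rw [Units.val_mul, det_mul, hyd, det_sigU]; ring
    have hl : ∀ (g : G22) (hg : g ∈ twoGL2 F) (h1 : (g, (1 : G22)) ∈ detEq F),
        toG2 ⟨(g, 1), h1⟩ ∈ Subgroup.closure gens := by
      have hbase : ∀ (g : G22) (h1 : (g, (1 : G22)) ∈ detEq F), g * sigU ∈ twoTorus F →
          toG2 ⟨(g, 1), h1⟩ ∈ Subgroup.closure gens := fun g h1 hg => by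
        have hgd : (g : Q2).det = 1 := by simpa using mem_detEq.1 h1
        exact Subgroup.subset_closure ⟨_, left_mem (Or.inr hg) hgd, rfl, hg, Or.inr ⟨rfl, hgd⟩⟩
      rintro g (hg | hg) h1
      · have hgd : (g : Q2).det = 1 := by simpa using mem_detEq.1 h1
        have h3 : (g * (y * sigU), (1 : G22)) ∈ detEq F := mem_detEq.2 (by
          rw [Units.val_mul, det_mul, hgd, hzd, one_mul, Units.val_one, det_one])
        have h4 : (y * sigU, (1 : G22)) ∈ detEq F := mem_detEq.2 (by rw [hzd, Units.val_one, det_one])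
        have e : (⟨(g, 1), h1⟩ : ↥(detEq F)) = ⟨_, h3⟩ * (⟨_, h4⟩)⁻¹ :=
          Subtype.ext (Prod.ext (by show g = g * (y * sigU) * (y * sigU)⁻¹; rw [mul_inv_cancel_right])
            (by show (1 : G22) = 1 * 1⁻¹; rw [inv_one, mul_one]))
        rw [e, map_mul, map_inv]
        refine mul_mem (hbase _ h3 ?_) (inv_mem (hbase _ h4 ?_))
        · rw [mul_assoc, mul_assoc, sigU_mul_self, mul_one]; exact mul_mem hg hy
        · rw [mul_assoc, sigU_mul_self, mul_one]; exact hy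
      · exact hbase g h1 hg
    rintro _ ⟨r, hr, rfl⟩
    have h1 : (r.1.1 * r.1.2⁻¹, (1 : G22)) ∈ detEq F := mem_detEq.2 (by
      rw [Units.val_mul, det_mul, mem_detEq.1 r.2, ← det_mul, Units.mul_inv, Units.val_one])
    have e : r = ⟨_, h1⟩ * ⟨(r.1.2, r.1.2), rfl⟩ := Subtype.ext (Prod.ext
      (by show r.1.1 = r.1.1 * r.1.2⁻¹ * r.1.2; rw [inv_mul_cancel_right])
      (by show r.1.2 = 1 * r.1.2; rw [one_mul]))
    rw [e, map_mul]
    exact mul_mem (hl _ (mul_mem hr.1 (inv_mem hr.2)) h1) (hd _ hr.2)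
  · rintro _ ⟨r, hr, rfl, hcos, hcase⟩
    have hsq : (r.1.1 : Q2) * r.1.1 = (-(r.1.1 : Q2).det) • (1 : Q2) := sq_coset hcos
    rcases hcase with heq | ⟨h1, hd⟩
    · rw [← map_pow, toG2_scalar (g := r ^ 2) (a := -(r.1.1 : Q2).det) ?_ ?_]
      · exact one_mem _
      · show ((r.1.1 ^ 2 : G22) : Q2) = _
        rw [sq, Units.val_mul, hsq]
      · show ((r.1.2 ^ 2 : G22) : Q2) = _
        rw [heq, sq, Units.val_mul, hsq]
    · obtain ⟨z, hz, hanti⟩ := exists_anticomm hcos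
      have hz2 : (⟨(z, z), rfl⟩ : ↥(detEq F)) ∈ twoPairs F := diag_mem (Or.inr hz)
      have hgg : r.1.1 * r.1.1 = -1 := Units.ext (by
        rw [Units.val_mul, hsq, hd, Units.val_neg, Units.val_one, neg_smul, one_smul])
      have e : r ^ 2 = ⁅r, (⟨(z, z), rfl⟩ : ↥(detEq F))⁆ := by
        rw [commutatorElement_def]
        refine Subtype.ext (Prod.ext ?_ ?_)
        · show r.1.1 ^ 2 = r.1.1 * z * r.1.1⁻¹ * z⁻¹
          rw [sq, hgg, hanti]
          simp only [mul_assoc, mul_inv_cancel_left, mul_inv_cancel, mul_one]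
        · show r.1.2 ^ 2 = r.1.2 * z * r.1.2⁻¹ * z⁻¹
          rw [h1]; simp
      rw [← map_pow, e, map_commutatorElement]
      exact Subgroup.commutator_mem_commutator ⟨r, hr, rfl⟩ ⟨_, hz2, rfl⟩

/-- The abelianization of a Sylow `2`-subgroup of `G₂(F)` is elementary abelian. -/
theorem sq_mem_commutator_sylow (hF : Odd (Fintype.card F)) (P : Sylow 2 ↥(G2 F)) :
    ∀ x : (P : Subgroup ↥(G2 F)), x ^ 2 ∈ commutator (P : Subgroup ↥(G2 F)) := by
  classical
  haveI : Fact (Nat.Prime 2) := ⟨Nat.prime_two⟩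
  haveI : Finite ↥(G2 F) := Subtype.finite
  let P₀ : Sylow 2 ↥(G2 F) :=
    { toSubgroup := twoG2 F
      isPGroup' := (isPGroup_twoPairs hF).map _
      is_maximal' := fun hQ hle => eq_twoG2_of_le hF hQ hle }
  exact (SqDer.sylow P₀ P (sqDer_twoG2 hF)).commutator

end CfsgLib.G2Oct
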