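import Cfsg.Agent.G2Oct.Bridge
import Cfsg.Agent.G2Oct.Sylow
import Mathlib.FieldTheory.Finite.Basic

/-!
All involutions of `G₂(q)`, `q` odd, are conjugate: each fixes a non-trivial idempotent, hence is
conjugate to an involution of `SL₃(q)`.
-/

set_option autoImplicit false

namespace CfsgLib.G2Oct

open Matrix Cfsg.Lie

variable {F : Type*} [Field F]

local notation "Q2" => Matrix (Fin 2) (Fin 2) F
local notation "G22" => GL (Fin 2) F
local notation "SL3" => Matrix.SpecialLinearGroup (Fin 3) F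

/-- The standard involution of `SL₃`. -/
def stdInv (F : Type*) [Field F] : Matrix.SpecialLinearGroup (Fin 3) F :=
  ⟨diagonal ![-1, -1, 1], by simp [det_diagonal, Fin.prod_univ_three]⟩

/-- Signs with product one, not all one, are a permutation of the standard ones. -/
theorem exists_perm_signs (h2 : (2 : F) ≠ 0) (d : Fin 3 → F) (hd : ∀ i, d i = 1 ∨ d i = -1)
    (hp : ∏ i, d i = 1) (hne : d ≠ fun _ => 1) :
    ∃ σ : Equiv.Perm (Fin 3), d ∘ σ = ![-1, -1, 1] := by
  have hn : (-1 : F) ≠ 1 := fun h => h2 (by linear_combination -h)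
  rw [Fin.prod_univ_three] at hp
  rcases hd 0 with h0 | h0 <;> rcases hd 1 with h1 | h1 <;> rcases hd 2 with h3 | h3 <;>
    rw [h0, h1, h3] at hp
  · exact absurd (funext fun i => by fin_cases i <;> assumption) hne
  · exact absurd (by simpa using hp) hn
  · exact absurd (by simpa using hp) hn
  · exact ⟨Equiv.swap 0 2, funext fun i => by fin_cases i <;> simp [Equiv.swap_apply_def, h0, h1, h3]⟩
  · exact absurd (by simpa using hp) hn
  · exact ⟨Equiv.swap 1 2, funext fun i => by fin_cases i <;> simp [Equiv.swap_apply_def, h0, h1, h3]⟩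
  · exact ⟨1, funext fun i => by fin_cases i <;> simp [h0, h1, h3]⟩
  · exact absurd (by simpa using hp) hn

/-- An involution of `SL₃` is conjugate to the standard one. -/
theorem exists_conj_stdInv (h2 : (2 : F) ≠ 0) (M : SL3) (h1 : M ^ 2 = 1) (hne : M ≠ 1) :
    ∃ P : SL3, P⁻¹ * M * P = stdInv F := by
  classical
  have hMM : M.1 * M.1 = 1 := by
    rw [← Matrix.SpecialLinearGroup.coe_mul, ← sq, h1]; rfl
  let S : Set (Fin 3 → F) := {v | M.1 *ᵥ v = v ∨ M.1 *ᵥ v = -v}
  have hspan : ⊤ ≤ Submodule.span F S := by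
    intro w _
    have e : w = (2 : F)⁻¹ • (w + M.1 *ᵥ w) + (2 : F)⁻¹ • (w - M.1 *ᵥ w) := by
      funext i; simp; field_simp; ring
    rw [e]
    refine add_mem (Submodule.smul_mem _ _ (Submodule.subset_span (Or.inl ?_)))
      (Submodule.smul_mem _ _ (Submodule.subset_span (Or.inr ?_)))
    · rw [Matrix.mulVec_add, Matrix.mulVec_mulVec, hMM, Matrix.one_mulVec, add_comm]
    · rw [Matrix.mulVec_sub, Matrix.mulVec_mulVec, hMM, Matrix.one_mulVec, neg_sub]
  let b0 := Module.Basis.ofSpan hspan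
  haveI := FiniteDimensional.fintypeBasisIndex b0
  let b : Module.Basis (Fin 3) F (Fin 3 → F) := b0.reindex
    (Fintype.equivFinOfCardEq (by rw [← Module.finrank_eq_card_basis b0, Module.finrank_fin_fun]))
  have hb : ∀ i, M.1 *ᵥ b i = b i ∨ M.1 *ᵥ b i = -b i := fun i => by
    have : b i ∈ S := by
      rw [Module.Basis.reindex_apply]
      exact Module.Basis.ofSpan_subset hspan ⟨_, rfl⟩
    exact this
  let d : Fin 3 → F := fun i => if M.1 *ᵥ b i = b i then 1 else -1
  have hd : ∀ i, d i = 1 ∨ d i = -1 := fun i => by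
    by_cases h : M.1 *ᵥ b i = b i <;> simp [d, h]
  have hMb : ∀ i, M.1 *ᵥ b i = d i • b i := fun i => by
    by_cases h : M.1 *ᵥ b i = b i
    · simp [d, h]
    · simp [d, h, (hb i).resolve_left h]
  let P0 : Matrix (Fin 3) (Fin 3) F := Matrix.of fun r i => b i r
  have hP0 : IsUnit P0 := Matrix.linearIndependent_cols_iff_isUnit.1 b.linearIndependent
  have hMP : M.1 * P0 = P0 * diagonal d := by
    ext r i
    rw [Matrix.mul_diagonal, Matrix.mul_apply]
    have := congrFun (hMb i) r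
    rw [Matrix.mulVec, dotProduct, Pi.smul_apply, smul_eq_mul, mul_comm] at this
    exact this
  have hdet0 : P0.det ≠ 0 := ((Matrix.isUnit_iff_isUnit_det _).1 hP0).ne_zero
  have hp : ∏ i, d i = 1 := by
    have := congrArg Matrix.det hMP
    rw [det_mul, det_mul, M.2, one_mul, det_diagonal] at this
    exact mul_left_cancel₀ hdet0 (by rw [mul_one]; exact this.symm)
  have hdne : d ≠ fun _ => 1 := by
    intro h
    rw [h, Matrix.diagonal_one, Matrix.mul_one] at hMP
    refine hne (Matrix.SpecialLinearGroup.ext _ _ fun i j => ?_)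
    have := hP0.mul_left_injective (show M.1 * P0 = 1 * P0 by rw [hMP, Matrix.one_mul])
    rw [this]; rfl
  obtain ⟨σ, hσ⟩ := exists_perm_signs h2 d hd hp hdne
  let P1 : Matrix (Fin 3) (Fin 3) F := P0.submatrix id σ
  have hMP1 : M.1 * P1 = P1 * diagonal ![-1, -1, 1] := by
    ext r i
    have := congrFun (congrFun hMP r) (σ i)
    rw [Matrix.mul_diagonal, Matrix.mul_apply] at this
    rw [Matrix.mul_diagonal, Matrix.mul_apply, ← hσ]
    exact this
  have hd1 : P1.det ≠ 0 := by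
    show (P0.submatrix id σ).det ≠ 0
    rw [Matrix.det_permute']
    refine mul_ne_zero ?_ hdet0
    rcases Int.units_eq_one_or (Equiv.Perm.sign σ) with h | h <;> simp [h]
  let P2 : Matrix (Fin 3) (Fin 3) F := P1 * diagonal ![P1.det⁻¹, 1, 1]
  have hd2 : P2.det = 1 := by
    show (P1 * diagonal ![P1.det⁻¹, 1, 1]).det = 1
    rw [det_mul, det_diagonal, Fin.prod_univ_three]
    simp [hd1]
  obtain ⟨P, hP⟩ : ∃ P : SL3, P.1 = P2 := ⟨⟨P2, hd2⟩, rfl⟩
  refine ⟨P, ?_⟩
  rw [mul_assoc, inv_mul_eq_iff_eq_mul]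
  refine Matrix.SpecialLinearGroup.ext _ _ fun i j => congrFun (congrFun ?_ i) j
  show M.1 * P.1 = P.1 * diagonal ![-1, -1, 1]
  rw [hP]
  simp only [P2, ← Matrix.mul_assoc, hMP1]
  simp only [Matrix.mul_assoc, Matrix.diagonal_mul_diagonal]
  congr 2
  funext k; fin_cases k <;> simp

theorem idem_mk8_iff (h X : Q2) : zornMul (mk8 h X) (mk8 h X) = mk8 h X ↔
    h * h + adjugate X * X = h ∧ X * h + X * adjugate h = X := by
  constructor
  · intro e
    exact ⟨by simpa [hPart_mul, hPart_mk8, xPart_mk8] using congrArg hPart e,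
      by simpa [xPart_mul, hPart_mk8, xPart_mk8] using congrArg xPart e⟩
  · rintro ⟨e1, e2⟩
    exact ext_parts (by simpa [hPart_mul, hPart_mk8, xPart_mk8] using e1)
      (by simpa [xPart_mul, hPart_mk8, xPart_mk8] using e2)

theorem trace_sq_scalar (h2 : (2 : F) ≠ 0) {A : Q2} (hd : A.det ≠ 0) {c : F}
    (hA : A * A = c • (1 : Q2)) :
    (∃ a : F, A = a • (1 : Q2)) ∨ (A 1 1 = -A 0 0 ∧ c = -A.det) := by
  have e := fun i j => congrFun (congrFun hA i) j
  have e00 := e 0 0; have e01 := e 0 1; have e10 := e 1 0; have e11 := e 1 1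
  simp [Matrix.mul_apply, Fin.sum_univ_two] at e00 e01 e10 e11
  by_cases ht : A 0 0 + A 1 1 = 0
  · refine Or.inr ⟨by linear_combination ht, ?_⟩
    rw [det_fin_two]
    linear_combination -e00 + A 0 0 * ht
  · refine Or.inl ⟨A 0 0, ?_⟩
    have hb : A 0 1 = 0 := (mul_eq_zero.1 (show A 0 1 * (A 0 0 + A 1 1) = 0 by
      linear_combination e01)).resolve_right ht
    have hc : A 1 0 = 0 := (mul_eq_zero.1 (show A 1 0 * (A 0 0 + A 1 1) = 0 by
      linear_combination e10)).resolve_right ht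
    have had : A 0 0 = A 1 1 := by
      have : (A 0 0 - A 1 1) * (A 0 0 + A 1 1) = 0 := by
        linear_combination e00 - e11
      exact sub_eq_zero.1 ((mul_eq_zero.1 this).resolve_right ht)
    ext i j; fin_cases i <;> fin_cases j <;> simp [hb, hc, ← had]

open Polynomial in
theorem exists_norm_form [Fintype F] (h2 : (2 : F) ≠ 0) {l : F} (hl : l ≠ 0) (m : F) :
    ∃ u v : F, u * u - l * (v * v) = m := by
  have hodd : Fintype.card F % 2 = 1 := by
    refine FiniteField.odd_card_of_char_ne_two fun hc => h2 ?_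
    haveI := ringChar.charP F
    rw [show (2 : F) = ((2 : ℕ) : F) by norm_num, CharP.cast_eq_zero_iff F (ringChar F), hc]
  obtain ⟨u, v, h⟩ := FiniteField.exists_root_sum_quadratic
    (f := (X ^ 2 - C m : F[X])) (g := (C (-l) * X ^ 2 : F[X]))
    (degree_X_pow_sub_C (by norm_num) m) (degree_C_mul_X_pow 2 (neg_ne_zero.2 hl)) hodd
  simp at h
  exact ⟨u, v, by linear_combination h⟩

theorem exists_intertwiner [Fintype F] (h2 : (2 : F) ≠ 0) {A B : Q2} (hA : A 1 1 = -A 0 0)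
    (hB : B 1 1 = -B 0 0) (hdet : A.det = B.det) (hd : A.det ≠ 0)
    (hAs : ¬∃ a : F, A = a • (1 : Q2)) (hBs : ¬∃ a : F, B = a • (1 : Q2)) (m : F) :
    ∃ X : Q2, B * X = X * A ∧ X.det = m := by
  have frame : ∀ T : Q2, T 1 1 = -T 0 0 → (¬∃ a : F, T = a • (1 : Q2)) → ∃ P : Q2, P.det ≠ 0 ∧
      T * P = P * !![0, -T.det; 1, 0] := by
    intro T hT hTs
    obtain ⟨a, b, c, d, rfl⟩ : ∃ a b c d, T = !![a, b; c, d] := ⟨_, _, _, _, Matrix.eta_fin_two T⟩
    simp at hT
    subst hT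
    by_cases hc : c = 0
    · by_cases hb : b = 0
      · refine ⟨!![1, a + b; 1, c - a], ?_, ?_⟩
        · subst hc hb
          simp [det_fin_two]
          intro h
          have ha : a ≠ 0 := fun ha => hTs ⟨0, by subst ha; ext i j; fin_cases i <;> fin_cases j <;> simp⟩
          exact ha (mul_left_cancel₀ h2 (by linear_combination -h))
        · ext i j; fin_cases i <;> fin_cases j <;> simp [det_fin_two, Matrix.mul_apply] <;> ring
      · refine ⟨!![0, b; 1, -a], by simp [det_fin_two, hb], ?_⟩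
        ext i j; fin_cases i <;> fin_cases j <;> simp [det_fin_two, Matrix.mul_apply] <;> ring
    · refine ⟨!![1, a; 0, c], by simp [det_fin_two, hc], ?_⟩
      ext i j; fin_cases i <;> fin_cases j <;> simp [det_fin_two, Matrix.mul_apply] <;> ring
  obtain ⟨P, hP, hPA⟩ := frame A hA hAs
  obtain ⟨Q, hQ, hQB⟩ := frame B hB hBs
  rw [← hdet] at hQB
  set C := (!![0, -A.det; 1, 0] : Q2)
  obtain ⟨u, v, huv⟩ := exists_norm_form h2 (neg_ne_zero.2 hd) (m * (Q.det)⁻¹ * P.det)
  let K : Q2 := u • 1 + v • C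
  have hK : C * K = K * C := by simp [K, Matrix.mul_add, Matrix.add_mul]
  have hKd : K.det = m * (Q.det)⁻¹ * P.det := by
    rw [← huv]; simp [K, C, det_fin_two]; ring
  have hPi : P * P⁻¹ = 1 := Matrix.mul_nonsing_inv P (Ne.isUnit hP)
  have hPi' : P⁻¹ * P = 1 := Matrix.nonsing_inv_mul P (Ne.isUnit hP)
  have hPinv : P⁻¹ * A = C * P⁻¹ := by
    calc P⁻¹ * A = P⁻¹ * (A * P) * P⁻¹ := by rw [Matrix.mul_assoc P⁻¹, Matrix.mul_assoc A, hPi, Matrix.mul_one]
      _ = (P⁻¹ * P) * C * P⁻¹ := by rw [hPA]; simp only [Matrix.mul_assoc]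
      _ = C * P⁻¹ := by rw [hPi', Matrix.one_mul]
  refine ⟨Q * K * P⁻¹, ?_, ?_⟩
  · calc B * (Q * K * P⁻¹) = (B * Q) * K * P⁻¹ := by simp only [Matrix.mul_assoc]
      _ = Q * (C * K) * P⁻¹ := by rw [hQB]; simp only [Matrix.mul_assoc]
      _ = Q * K * (C * P⁻¹) := by rw [hK]; simp only [Matrix.mul_assoc]
      _ = _ := by rw [← hPinv]; simp only [Matrix.mul_assoc]
  · rw [det_mul, det_mul, hKd, Matrix.det_nonsing_inv, Ring.inverse_eq_inv']
    field_simp

/-- The idempotent of the quaternion part. -/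
theorem idem_quat : zornMul (mk8 (!![1, 0; 0, 0] : Q2) 0) (mk8 !![1, 0; 0, 0] 0) =
    mk8 !![1, 0; 0, 0] 0 := by
  refine (idem_mk8_iff _ _).2 ⟨?_, ?_⟩
  · ext i j; fin_cases i <;> fin_cases j <;> simp [Matrix.mul_apply, adjugate_fin_two]
  · simp

/-- Every involution of the pairs fixes a non-trivial idempotent. -/
theorem exists_fixed_idem [Fintype F] (h2 : (2 : F) ≠ 0) (g : detEq F) (hg : toG2 g ^ 2 = 1) :
    ∃ x, zornMul x x = x ∧ x ≠ 0 ∧ x ≠ octOne F ∧ g2Mat (toG2 g) *ᵥ x = x := by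
  rcases g with ⟨⟨A, B⟩, hdet'⟩
  have hdet : (A : Q2).det = (B : Q2).det := mem_detEq.1 hdet'
  have hact : ∀ x, g2Mat (toG2 ⟨(A, B), hdet'⟩) *ᵥ x = actLin (A, B) x := fun x => toG2_mulVec _ x
  have hone : hPart (octOne F) = 1 := by
    ext i j; fin_cases i <;> fin_cases j <;> simp [hPart, octOne, zMk]
  have hhalf : ∀ h : Q2, h ≠ 0 → h ≠ 1 → ∀ X, mk8 h X ≠ 0 ∧ mk8 h X ≠ octOne F := fun h h0 h1 X =>
    ⟨fun e => h0 (by
      rw [← hPart_mk8 h X, e]; ext i j; fin_cases i <;> fin_cases j <;> simp [hPart]),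
     fun e => h1 (by rw [← hPart_mk8 h X, e, hone])⟩
  by_cases hAs : ∃ a : F, (A : Q2) = a • (1 : Q2)
  · obtain ⟨a, ha⟩ := hAs
    obtain ⟨h0, h1⟩ := hhalf !![1, 0; 0, 0] (fun e => by simpa using congrFun (congrFun e 0) 0)
      (fun e => by simpa using congrFun (congrFun e 1) 1) 0
    refine ⟨_, idem_quat, h0, h1, ?_⟩
    rw [hact]
    apply ext_parts
    · rw [hPart_actLin, hPart_mk8]
      have hi : (A : Q2) * ((A⁻¹ : G22) : Q2) = 1 := Units.mul_inv _
      rw [ha, Matrix.smul_mul, Matrix.one_mul] at hi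
      rw [ha, Matrix.smul_mul, Matrix.one_mul, Matrix.smul_mul, ← Matrix.mul_smul, hi, Matrix.mul_one]
    · rw [xPart_actLin, xPart_mk8, Matrix.mul_zero, Matrix.zero_mul]
  · have hAB : B * B = A * A := eq_of_toG2_eq_one (g := ⟨(A, B), hdet'⟩ * ⟨(A, B), hdet'⟩)
      (by rw [map_mul, ← sq]; exact hg)
    have hcen : ∀ h : Q2, ((A * A : G22) : Q2) * h = h * ((A * A : G22) : Q2) := fun h => by
      have := congrArg (fun a : ↥(G2 F) => hPart (g2Mat a *ᵥ mk8 h 0)) hg
      rw [sq, ← map_mul] at this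
      simp only [g2Mat_one, Matrix.one_mulVec, hPart_mk8] at this
      rw [show g2Mat (toG2 (⟨(A, B), hdet'⟩ * ⟨(A, B), hdet'⟩ : detEq F)) *ᵥ mk8 h 0 =
        actLin ((A, B) * (A, B)) (mk8 h 0) from toG2_mulVec _ _, hPart_actLin, hPart_mk8] at this
      conv_rhs => rw [← this]
      simp only [Prod.fst_mul, Matrix.mul_assoc]
      rw [← Units.val_mul, inv_mul_cancel, Units.val_one, Matrix.mul_one]
    obtain ⟨c, hc⟩ : ∃ c : F, ((A * A : G22) : Q2) = c • (1 : Q2) := by
      generalize ((A * A : G22) : Q2) = T at hcen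
      refine ⟨T 0 0, ?_⟩
      have e1 := hcen !![0, 1; 0, 0]
      have e2 := hcen !![0, 0; 1, 0]
      have f1 := fun i j => congrFun (congrFun e1 i) j
      have f2 := fun i j => congrFun (congrFun e2 i) j
      have g1 := f1 0 1; have g2 := f1 0 0; have g3 := f2 0 0
      simp [Matrix.mul_apply, Fin.sum_univ_two] at g1 g2 g3
      ext i j; fin_cases i <;> fin_cases j <;> simp [g1, ← g2, g3]
    have hAdet : (A : Q2).det ≠ 0 := ((Matrix.isUnit_iff_isUnit_det _).1 A.isUnit).ne_zero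
    have hA2 : (A : Q2) * A = c • (1 : Q2) := by rw [← Units.val_mul]; exact hc
    have hB2 : (B : Q2) * B = c • (1 : Q2) := by rw [← Units.val_mul, hAB]; exact hc
    obtain ⟨hA11, hcA⟩ := (trace_sq_scalar h2 hAdet hA2).resolve_left hAs
    have hBs : ¬∃ b : F, (B : Q2) = b • (1 : Q2) := by
      rintro ⟨b, hb⟩
      have e1 := congrFun (congrFun hB2 0) 0
      rw [hb] at e1
      simp at e1
      have e2 : (B : Q2).det = b * b := by rw [hb, det_fin_two]; simp
      exact hAdet (mul_left_cancel₀ h2 (by rw [mul_zero]; linear_combination hdet + e1 + e2 + hcA))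
    obtain ⟨hB11, -⟩ := (trace_sq_scalar h2 (hdet ▸ hAdet) hB2).resolve_left hBs
    obtain ⟨X, hBX, hX⟩ := exists_intertwiner h2 hA11 hB11 hdet hAdet hAs hBs ((2 : F)⁻¹ * 2⁻¹)
    obtain ⟨h0, h1⟩ := hhalf ((2 : F)⁻¹ • (1 : Q2))
      (fun e => h2 (by simpa using congrFun (congrFun e 0) 0))
      (fun e => by
        have := congrFun (congrFun e 0) 0
        simp at this
        exact one_ne_zero (α := F) (by linear_combination this)) X
    refine ⟨mk8 ((2 : F)⁻¹ • (1 : Q2)) X, (idem_mk8_iff _ _).2 ⟨?_, ?_⟩, h0, h1, ?_⟩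
    · rw [Matrix.adjugate_mul, hX, Matrix.smul_mul, Matrix.one_mul, smul_smul, ← add_smul]
      congr 1; field_simp; ring
    · rw [Matrix.adjugate_smul, Matrix.adjugate_one, Fintype.card_fin, Matrix.mul_smul,
        Matrix.mul_smul, Matrix.mul_one, ← add_smul]
      rw [show ((2 : F)⁻¹ + (2 : F)⁻¹ ^ (2 - 1)) = 1 by
        rw [show 2 - 1 = 1 from rfl, pow_one, ← two_mul, mul_inv_cancel₀ h2], one_smul]
    · rw [hact]
      apply ext_parts
      · rw [hPart_actLin, hPart_mk8, Matrix.mul_smul, Matrix.mul_one, Matrix.smul_mul, Units.mul_inv]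
      · rw [xPart_actLin, xPart_mk8, hBX, Matrix.mul_assoc, Units.mul_inv, Matrix.mul_one]

/-- All involutions are conjugate to one. -/
theorem isConj_stdInv [Fintype F] (hF : Odd (Fintype.card F)) {s : ↥(G2 F)} (hs : orderOf s = 2) :
    IsConj s (sl3G2 (stdInv F)) := by
  classical
  have h2 := two_ne_zero_of_odd hF
  haveI : Fact (Nat.Prime 2) := ⟨Nat.prime_two⟩
  haveI : Finite ↥(G2 F) := Subtype.finite
  let P₀ : Sylow 2 ↥(G2 F) :=
    { toSubgroup := twoG2 F
      isPGroup' := (isPGroup_twoPairs hF).map _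
      is_maximal' := fun hQ hle => eq_twoG2_of_le hF hQ hle }
  have hp : IsPGroup 2 ↥(Subgroup.zpowers s) := IsPGroup.of_card (n := 1)
    (by rw [Nat.card_zpowers, hs, pow_one])
  obtain ⟨P, hP⟩ := hp.exists_le_sylow
  obtain ⟨k, hk⟩ := MulAction.exists_smul_eq ↥(G2 F) P P₀
  have hsP : k * s * k⁻¹ ∈ twoG2 F := by
    have : k * s * k⁻¹ ∈ ((k • P : Sylow 2 ↥(G2 F)) : Subgroup ↥(G2 F)) := by
      rw [Sylow.coe_subgroup_smul]
      exact Subgroup.smul_mem_pointwise_smul s (MulAut.conj k) _ (hP (Subgroup.mem_zpowers s))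
    rwa [hk] at this
  obtain ⟨g, -, hg⟩ := hsP
  have hsq : s ^ 2 = 1 := hs ▸ pow_orderOf_eq_one s
  obtain ⟨x, hx, hx0, hx1, hxf⟩ := exists_fixed_idem h2 g (by rw [hg, conj_pow, hsq]; simp)
  obtain ⟨l, -, hl⟩ := reach_idemE hx hx0 hx1
  rw [hg] at hxf
  have hfix : g2Mat (l * (k * s * k⁻¹) * l⁻¹) *ᵥ idemE F = idemE F := by
    conv_lhs => rw [← hl, Matrix.mulVec_mulVec, ← g2Mat_mul, inv_mul_cancel_right, g2Mat_mul,
      ← Matrix.mulVec_mulVec, hxf, hl]
  obtain ⟨M, hM⟩ := exists_sl3_of_fix hfix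
  have hM2 : M ^ 2 = 1 := sl3G2_injective (by
    rw [map_pow, hM, conj_pow, conj_pow, hsq, map_one]; simp)
  have hMne : M ≠ 1 := fun e => by
    rw [e, map_one, eq_comm, conj_eq_one_iff, conj_eq_one_iff] at hM
    rw [hM, orderOf_one] at hs
    omega
  obtain ⟨Q, hQ⟩ := exists_conj_stdInv h2 M hM2 hMne
  refine isConj_iff.2 ⟨sl3G2 Q⁻¹ * l * k, ?_⟩
  rw [← hQ, map_mul, map_mul, hM, map_inv]
  group

end CfsgLib.G2Oct
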