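import Cfsg.Agent.G2Oct.Bridge
import Mathlib.FieldTheory.Finite.Extension
import Mathlib.Algebra.Algebra.Subalgebra.IsSimpleOrder
import Mathlib.RingTheory.Norm.Defs
import Mathlib.RingTheory.RootsOfUnity.PrimitiveRoots

/-!
A cyclic self-centralizing subgroup of order `q² + q + 1` in `G₂(q)`, `q ≥ 3`: the kernel of the norm
in a Singer cycle of `SL₃(q)`.
-/

set_option autoImplicit false

namespace CfsgLib.G2Oct

open Matrix Cfsg.Lie Polynomial

/-- A polynomial in an intertwined pair. -/
theorem semiconj_aeval {R : Type*} [CommRing R] {ι : Type*} [Fintype ι] [DecidableEq ι]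
    {N A B : Matrix ι ι R} (h : N * A = B * N) (f : R[X]) :
    N * aeval A f = aeval B f * N := by
  induction f using Polynomial.induction_on with
  | C a => simp [Algebra.algebraMap_eq_smul_one]
  | add p q hp hq => rw [map_add, map_add, Matrix.mul_add, Matrix.add_mul, hp, hq]
  | monomial n a hn =>
    rw [pow_succ, ← mul_assoc, map_mul (aeval A), map_mul (aeval B), aeval_X, aeval_X,
      ← Matrix.mul_assoc, hn, Matrix.mul_assoc, h, Matrix.mul_assoc]

theorem aeval_transpose {R : Type*} [CommRing R] {ι : Type*} [Fintype ι] [DecidableEq ι]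
    (A : Matrix ι ι R) (f : R[X]) : aeval Aᵀ f = (aeval A f)ᵀ := by
  induction f using Polynomial.induction_on with
  | C a => simp [Algebra.algebraMap_eq_smul_one]
  | add p q hp hq => rw [map_add, map_add, Matrix.transpose_add, hp, hq]
  | monomial n a _ =>
    rw [map_mul, map_mul, aeval_C, aeval_C, map_pow, map_pow, aeval_X, aeval_X, ← Matrix.transpose_pow,
      Matrix.transpose_mul, Algebra.algebraMap_eq_smul_one, Matrix.transpose_smul,
      Matrix.transpose_one, Matrix.mul_smul, Matrix.smul_mul, Matrix.mul_one, Matrix.one_mul]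

variable {F : Type*} [Field F]

theorem idemE_ne_zero : idemE F ≠ 0 := fun h => by simpa [idemE, zMk] using congrFun h 0

theorem sl3Lin_idemE (M : Matrix.SpecialLinearGroup (Fin 3) F) : sl3Lin M (idemE F) = idemE F := by
  rw [idemE, sl3Lin_apply, Matrix.mulVec_zero, Matrix.mulVec_zero]

set_option maxHeartbeats 1000000 in
/-- The arithmetic and field theory of the norm-one element. -/
theorem exists_norm_one_element [Fintype F] (hq : 3 ≤ Fintype.card F) :
    ∃ (M0 : Matrix.SpecialLinearGroup (Fin 3) F),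
      orderOf M0 = Fintype.card F ^ 2 + Fintype.card F + 1 ∧
      (∀ v, M0.1 *ᵥ v = v → v = 0) ∧ (∀ v, (M0.1)ᵀ *ᵥ v = v → v = 0) ∧
      (∀ N : Matrix (Fin 3) (Fin 3) F, Function.Injective (fun v => N *ᵥ v) →
        N * M0.1 ≠ (M0⁻¹).1ᵀ * N) ∧
      (∀ M : Matrix.SpecialLinearGroup (Fin 3) F, M * M0 = M0 * M →
        M ∈ Subgroup.zpowers M0) := by
  classical
  set q := Fintype.card F with hqdef
  set p := ringChar F with hp
  haveI : CharP F p := ringChar.charP F
  haveI : Fact p.Prime := ⟨CharP.char_is_prime F p⟩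
  let K := FiniteField.Extension F p 3
  have hK : Nat.card K = q ^ 3 := by
    rw [FiniteField.natCard_extension, Nat.card_eq_fintype_card]
  have hKr : Module.finrank F K = 3 := FiniteField.finrank_extension F p 3
  let b : Module.Basis (Fin 3) F K := Module.finBasisOfFinrankEq F K hKr
  let φ := Algebra.leftMulMatrix b
  have hφinj : Function.Injective φ := Algebra.leftMulMatrix_injective b
  set n := q ^ 2 + q + 1 with hn
  have hmul : q ^ 3 - 1 = n * (q - 1) := by
    obtain ⟨m, hm⟩ : ∃ m, q = m + 1 := ⟨q - 1, by omega⟩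
    simp only [hn, hm, Nat.add_sub_cancel]
    apply Nat.sub_eq_of_eq_add
    ring
  obtain ⟨u, hu⟩ := IsCyclic.exists_generator (α := Kˣ)
  have hou : orderOf u = q ^ 3 - 1 := by
    rw [orderOf_eq_card_of_forall_mem_zpowers hu, Nat.card_units, hK]
  set hU : Kˣ := u ^ (q - 1) with hhU
  have hoh : orderOf hU = n := by
    rw [hhU, orderOf_pow' u (by omega : q - 1 ≠ 0), hou, hmul, Nat.gcd_mul_left_left,
      Nat.mul_div_cancel n (by omega)]
  set h : K := (hU : K) with hh
  have hoh' : orderOf h = n := by rw [hh, orderOf_units, hoh]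
  have hh0 : h ≠ 0 := hU.ne_zero
  have hnorm : ∀ x : K, algebraMap F K (Algebra.norm F x) = x ^ n := fun x => by
    rw [FiniteField.algebraMap_norm_eq_pow, hK, Nat.card_eq_fintype_card, hmul,
      Nat.mul_div_cancel n (by omega)]
  have hdet : ∀ x : K, x ^ n = 1 → (φ x).det = 1 := fun x hx => by
    rw [← Algebra.norm_eq_matrix_det b]
    exact (algebraMap F K).injective (by rw [hnorm, hx, map_one])
  let M0 : Matrix.SpecialLinearGroup (Fin 3) F :=
    ⟨φ h, hdet h (by rw [← hoh', pow_orderOf_eq_one])⟩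
  have hpowval : ∀ k : ℕ, (M0 ^ k).1 = φ (h ^ k) := fun k => by
    rw [Matrix.SpecialLinearGroup.coe_pow, map_pow]
  have hord : orderOf M0 = n := by
    rw [← hoh']
    refine orderOf_eq_orderOf_iff.2 fun k => ?_
    rw [← (hφinj).eq_iff (a := h ^ k), map_one, ← hpowval]
    exact ⟨fun e => by rw [e]; rfl, fun e => Matrix.SpecialLinearGroup.ext _ _
      fun i j => congrFun (congrFun e i) j⟩
  have hh1 : h ≠ 1 := fun e => by rw [e, orderOf_one] at hoh'; omega
  have hunit : IsUnit (φ (h - 1)) := (Ne.isUnit (sub_ne_zero.2 hh1)).map φ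
  have hfix1 : ∀ v, M0.1 *ᵥ v = v → v = 0 := fun v hv => by
    refine (Matrix.mulVec_injective_iff_isUnit.2 hunit) ?_
    show φ (h - 1) *ᵥ v = φ (h - 1) *ᵥ 0
    rw [Matrix.mulVec_zero, map_sub, map_one, Matrix.sub_mulVec, Matrix.one_mulVec,
      show φ h *ᵥ v = v from hv, sub_self]
  have hfix2 : ∀ v, (M0.1)ᵀ *ᵥ v = v → v = 0 := fun v hv => by
    have hunit' : IsUnit (φ (h - 1))ᵀ := by
      rw [Matrix.isUnit_iff_isUnit_det, Matrix.det_transpose, ← Matrix.isUnit_iff_isUnit_det]
      exact hunit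
    refine (Matrix.mulVec_injective_iff_isUnit.2 hunit') ?_
    show (φ (h - 1))ᵀ *ᵥ v = (φ (h - 1))ᵀ *ᵥ 0
    rw [Matrix.mulVec_zero, map_sub, map_one, Matrix.transpose_sub, Matrix.transpose_one,
      Matrix.sub_mulVec, Matrix.one_mulVec, show (φ h)ᵀ *ᵥ v = v from hv, sub_self]
  -- powers of `h`
  have hpe : ∀ a c : ℕ, a < n → c < n → h ^ a = h ^ c → a = c := fun a c ha hc e => by
    exact pow_injOn_Iio_orderOf (by rw [hoh']; exact ha) (by rw [hoh']; exact hc) e
  have hq2 : q ^ 2 = q * q := sq q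
  have hqq : 3 * q ≤ q * q := Nat.mul_le_mul_right q hq
  have hno : ∀ N : Matrix (Fin 3) (Fin 3) F, Function.Injective (fun v => N *ᵥ v) →
      N * M0.1 ≠ (M0⁻¹).1ᵀ * N := by
    intro N hN e
    set f := minpoly F h with hf
    have hfh : aeval h f = 0 := minpoly.aeval F h
    have hint : IsIntegral F h := IsIntegral.of_finite F h
    have hfne : f ≠ 0 := minpoly.ne_zero hint
    have hfdeg : f.natDegree ≤ 3 := hKr ▸ minpoly.natDegree_le h
    have h1 : aeval M0.1 f = 0 := by
      show aeval (φ h) f = 0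
      rw [aeval_algHom_apply, hfh, map_zero]
    have h2 := semiconj_aeval e f
    rw [h1, Matrix.mul_zero] at h2
    have h3 : aeval ((M0⁻¹).1ᵀ) f = 0 := by
      have hNu : IsUnit N := Matrix.mulVec_injective_iff_isUnit.1 hN
      exact (hNu.mul_left_eq_zero).1 h2.symm
    rw [aeval_transpose, Matrix.transpose_eq_zero] at h3
    have h4 : (M0⁻¹).1 = φ h⁻¹ := by
      have e1 : (M0⁻¹).1 * φ h = 1 := by
        show (M0⁻¹).1 * M0.1 = 1
        rw [← Matrix.SpecialLinearGroup.coe_mul, inv_mul_cancel]; rfl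
      calc (M0⁻¹).1 = (M0⁻¹).1 * φ (h * h⁻¹) := by rw [mul_inv_cancel₀ hh0, map_one, Matrix.mul_one]
        _ = φ h⁻¹ := by rw [map_mul, ← Matrix.mul_assoc, e1, Matrix.one_mul]
    rw [h4, aeval_algHom_apply, map_eq_zero_iff _ hφinj] at h3
    let Fr := FiniteField.frobeniusAlgHom F K
    have hroot : ∀ x : K, aeval x f = 0 → aeval (x ^ q) f = 0 := fun x hx => by
      have := aeval_algHom_apply Fr x f
      rw [hx, map_zero] at this
      simpa [Fr, FiniteField.coe_frobeniusAlgHom, hqdef] using this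
    have r1 := hroot h hfh
    have r2 := hroot _ r1
    rw [← pow_mul] at r2
    let S : Finset K := {h, h ^ q, h ^ (q * q)}
    have hSroots : S ⊆ (f.map (algebraMap F K)).roots.toFinset := by
      intro x hx
      rw [Multiset.mem_toFinset, mem_roots (Polynomial.map_ne_zero hfne), IsRoot.def,
        eval_map_algebraMap]
      simp only [S, Finset.mem_insert, Finset.mem_singleton] at hx
      rcases hx with rfl | rfl | rfl
      exacts [hfh, r1, r2]
    have hne1 : h ≠ h ^ q := fun e' => by
      have := hpe 1 q (by omega) (by omega) (by rw [pow_one]; exact e')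
      omega
    have hne2 : h ≠ h ^ (q * q) := fun e' => by
      have := hpe 1 (q * q) (by omega) (by omega) (by rw [pow_one]; exact e')
      omega
    have hne3 : h ^ q ≠ h ^ (q * q) := fun e' => by
      have := hpe q (q * q) (by omega) (by omega) e'
      omega
    have hScard : S.card = 3 := by
      simp [S, hne1, hne2, hne3]
    have hSeq : S = (f.map (algebraMap F K)).roots.toFinset :=
      Finset.eq_of_subset_of_card_le hSroots (by
        rw [hScard]
        calc _ ≤ Multiset.card (f.map (algebraMap F K)).roots := Multiset.toFinset_card_le _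
          _ ≤ (f.map (algebraMap F K)).natDegree := card_roots' _
          _ ≤ 3 := by rw [natDegree_map]; exact hfdeg)
    have hinv : h⁻¹ ∈ S := by
      rw [hSeq, Multiset.mem_toFinset, mem_roots (Polynomial.map_ne_zero hfne), IsRoot.def,
        eval_map_algebraMap]
      exact h3
    have key : ∀ j : ℕ, j + 1 < n → h⁻¹ = h ^ j → False := fun j hj e' => by
      have h5 : h ^ (j + 1) = h ^ 0 := by rw [pow_succ, ← e', inv_mul_cancel₀ hh0, pow_zero]
      have := hpe (j + 1) 0 hj (by omega) h5
      omega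
    simp only [S, Finset.mem_insert, Finset.mem_singleton] at hinv
    rcases hinv with hi | hi | hi
    · exact key 1 (by omega) (by rw [pow_one]; exact hi)
    · exact key q (by omega) hi
    · exact key (q * q) (by omega) hi
  refine ⟨M0, hord, hfix1, hfix2, hno, fun M hM => ?_⟩
  have hM' : M.1 * φ h = φ h * M.1 := congrArg Subtype.val hM
  let C : Subalgebra F K := (Subalgebra.centralizer F ({M.1} : Set (Matrix (Fin 3) (Fin 3) F))).comap φ
  have hCh : h ∈ C := by
    show φ h ∈ Subalgebra.centralizer F _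
    rw [Subalgebra.mem_centralizer_iff]
    simpa using hM'
  haveI : IsSimpleOrder (Subalgebra F K) :=
    Subalgebra.isSimpleOrder_of_finrank_prime F K (by rw [hKr]; norm_num)
  have hCtop : C = ⊤ := by
    rcases eq_bot_or_eq_top C with hC | hC
    · exfalso
      rw [hC, Algebra.mem_bot] at hCh
      obtain ⟨a, ha⟩ := hCh
      have : h ^ q = h := by rw [← ha, ← map_pow, hqdef, FiniteField.pow_card]
      have := hpe q 1 (by omega) (by omega) (by rw [pow_one]; exact this)
      omega
    · exact hC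
  have hall : ∀ x : K, M.1 * φ x = φ x * M.1 := fun x => by
    have hx : x ∈ C := by rw [hCtop]; exact Algebra.mem_top
    have hx' : φ x ∈ Subalgebra.centralizer F _ := hx
    rw [Subalgebra.mem_centralizer_iff] at hx'
    exact hx' _ rfl
  let a : K := b.equivFun.symm (M.1 *ᵥ b.equivFun 1)
  have hrep : ∀ x y : K, φ x *ᵥ b.equivFun y = b.equivFun (x * y) := fun x y =>
    Algebra.leftMulMatrix_mulVec_repr b x y
  have hMa : M.1 = φ a := by
    refine Matrix.ext_iff_mulVec.2 fun v => ?_
    obtain ⟨x, rfl⟩ := b.equivFun.surjective v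
    conv_lhs => rw [← mul_one x, ← hrep, Matrix.mulVec_mulVec, hall, ← Matrix.mulVec_mulVec]
    rw [show M.1 *ᵥ b.equivFun 1 = b.equivFun a from (LinearEquiv.apply_symm_apply _ _).symm,
      hrep, hrep, mul_comm]
  have han : a ^ n = 1 := by
    rw [← hnorm, Algebra.norm_eq_matrix_det b]
    show algebraMap F K (φ a).det = 1
    rw [← hMa, M.2, map_one]
  haveI : NeZero n := ⟨by omega⟩
  obtain ⟨i, -, hi⟩ := (hoh' ▸ IsPrimitiveRoot.orderOf h).eq_pow_of_pow_eq_one han
  refine ⟨i, ?_⟩
  refine Matrix.SpecialLinearGroup.ext _ _ fun r s => ?_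
  show (M0 ^ (i : ℤ)).1 r s = M.1 r s
  rw [zpow_natCast, hpowval, hi, hMa]

/-- The cyclic self-centralizing subgroup. -/
theorem exists_cyclic_self_centralizing [Fintype F] (hq : 3 ≤ Fintype.card F) :
    ∃ H : Subgroup ↥(G2 F), IsCyclic ↥H ∧
      Nat.card ↥H = Fintype.card F ^ 2 + Fintype.card F + 1 ∧
      Subgroup.centralizer (H : Set ↥(G2 F)) = H := by
  obtain ⟨M0, hord, hfix1, hfix2, hno, hcent⟩ := exists_norm_one_element hq
  refine ⟨Subgroup.zpowers (sl3G2 M0), inferInstance, ?_, le_antisymm (fun c hc => ?_) ?_⟩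
  · rw [Nat.card_zpowers, orderOf_injective _ sl3G2_injective, hord]
  swap
  · intro c hc
    rw [Subgroup.mem_centralizer_iff]
    intro k hk
    exact setLike_mul_comm hk hc
  have hcg : sl3G2 M0 * c = c * sl3G2 M0 :=
    Subgroup.mem_centralizer_iff.1 hc _ (Subgroup.mem_zpowers _)
  have hact : ∀ x, g2Mat c *ᵥ sl3Lin M0 x = sl3Lin M0 (g2Mat c *ᵥ x) := fun x => by
    rw [← sl3G2_mulVec, ← sl3G2_mulVec, Matrix.mulVec_mulVec, Matrix.mulVec_mulVec, ← g2Mat_mul,
      ← g2Mat_mul, hcg]
  have hfix : ∀ x, sl3Lin M0 x = x → x = zMk (x 0) 0 0 (x 7) := fun x hx => by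
    rw [← zMk_parts x, sl3Lin_apply, zMk_inj] at hx
    have ha := hfix1 _ hx.2.1
    have hb : zB F x = 0 := by
      refine hfix2 _ ?_
      conv_lhs => rw [← hx.2.2.1, Matrix.mulVec_mulVec, ← Matrix.transpose_mul,
        ← Matrix.SpecialLinearGroup.coe_mul, inv_mul_cancel, Matrix.SpecialLinearGroup.coe_one,
        Matrix.transpose_one, Matrix.one_mulVec]
    conv_lhs => rw [← zMk_parts x, ha, hb]
  obtain ⟨h1, h2, h3⟩ := g2Mat_idem c
  have hy := hfix (g2Mat c *ᵥ idemE F) (by rw [← hact, sl3Lin_idemE])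
  generalize hce : g2Mat c *ᵥ idemE F = y at h1 h2 h3 hy
  have hye : y = idemE F := by
    rw [hy, zornMul_zMk, zMk_inj] at h1
    obtain ⟨c0, -, -, c7⟩ := h1
    simp [dot3] at c0 c7
    rcases mul_eq_zero.1 (show y 0 * (y 0 - 1) = 0 by linear_combination c0) with d0 | d0 <;>
      rcases mul_eq_zero.1 (show y 7 * (y 7 - 1) = 0 by linear_combination c7) with d7 | d7 <;>
      (try rw [sub_eq_zero] at d0) <;> (try rw [sub_eq_zero] at d7) <;> rw [d0, d7] at hy
    · refine absurd ?_ h2
      rw [hy]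
      funext k; fin_cases k <;> simp [zMk]
    · exfalso
      subst hy
      have hB : ∀ a : Fin 3 → F, g2Mat c *ᵥ zMk 0 a 0 0 =
          zMk 0 0 (zB F (g2Mat c *ᵥ zMk 0 a 0 0)) 0 := fun a => by
        have e1 : zornMul (idemE F) (zMk 0 a 0 0) = zMk 0 a 0 0 := by
          funext i; fin_cases i <;> simp [idemE, zMk, zornMul, zA, zB, dot3, cross3]
        have e2 : zornMul (zMk 0 a 0 0) (idemE F) = 0 := by
          funext i; fin_cases i <;> simp [idemE, zMk, zornMul, zA, zB, dot3, cross3]
        have k1 := g2Mat_zornMul c (idemE F) (zMk 0 a 0 0)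
        have k2 := g2Mat_zornMul c (zMk 0 a 0 0) (idemE F)
        rw [e1, hce] at k1
        rw [e2, hce, Matrix.mulVec_zero] at k2
        generalize g2Mat c *ᵥ zMk 0 a 0 0 = z at k1 k2 ⊢
        have q0 := congrFun k1 0
        have q1 := congrFun k1 1
        have q2 := congrFun k1 2
        have q3 := congrFun k1 3
        have q7 := congrFun k2 7
        simp [zMk, zornMul, zA, zB, dot3, cross3] at q0 q1 q2 q3 q7
        funext i
        fin_cases i <;> simp [zMk, zB, q0, q1, q2, q3, q7]
      let L : (Fin 3 → F) →ₗ[F] (Fin 3 → F) :=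
        { toFun := fun a => zB F (g2Mat c *ᵥ zMk 0 a 0 0)
          map_add' := fun a a' => by
            have e : zMk 0 (a + a') 0 0 = zMk (F := F) 0 a 0 0 + zMk 0 a' 0 0 := by
              funext i; fin_cases i <;> simp [zMk]
            rw [e, Matrix.mulVec_add]
            funext i; fin_cases i <;> simp [zB]
          map_smul' := fun k a => by
            have e : zMk 0 (k • a) 0 0 = k • zMk (F := F) 0 a 0 0 := by
              funext i; fin_cases i <;> simp [zMk]
            rw [e, Matrix.mulVec_smul, RingHom.id_apply]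
            funext i; fin_cases i <;> simp [zB] }
      refine hno (LinearMap.toMatrix' L) (fun a a' e => ?_) ?_
      · simp only [LinearMap.toMatrix'_mulVec] at e
        have e' : g2Mat c *ᵥ zMk 0 a 0 0 = g2Mat c *ᵥ zMk 0 a' 0 0 := by
          rw [hB a, hB a']
          exact congrArg (fun u => zMk 0 0 u 0) e
        exact (zMk_inj.1 (g2Mat_inj c e')).2.1
      · refine Matrix.ext_iff_mulVec.2 fun a => ?_
        rw [← Matrix.mulVec_mulVec, ← Matrix.mulVec_mulVec, LinearMap.toMatrix'_mulVec,
          LinearMap.toMatrix'_mulVec]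
        show zB F (g2Mat c *ᵥ zMk 0 (M0.1 *ᵥ a) 0 0) = _
        have e : zMk 0 (M0.1 *ᵥ a) 0 0 = sl3Lin M0 (zMk 0 a 0 0) := by
          rw [sl3Lin_apply, Matrix.mulVec_zero]
        rw [e, hact, hB a, sl3Lin_apply, Matrix.mulVec_zero]
        funext i; fin_cases i <;> rfl
    · rw [hy]; rfl
    · exact absurd hy h3
  obtain ⟨M, rfl⟩ := exists_sl3_of_fix (hce.trans hye)
  have hMc : M * M0 = M0 * M := sl3G2_injective (by rw [map_mul, map_mul, hcg])
  obtain ⟨i, hi⟩ := hcent M hMc
  exact ⟨i, by rw [← hi, map_zpow]⟩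

end CfsgLib.G2Oct
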